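import Cfsg.Agent.H824.PG.Num
import Cfsg.Agent.H371.Core.Alt

/-!
# Alternating groups (prime graph version)
-/

set_option autoImplicit false

namespace Cfsg.Agent.H824.PG

open Cfsg.Agent.H94 Equiv.Perm Cfsg.Agent.H371 Cfsg.Agent.H371.Core

/-- **No alternating group of degree at least `8`.** -/
theorem not_alt {k : ℕ} (hk : 8 ≤ k) {p f n m : ℕ} (B : PB (alternatingGroup (Fin k)) p f n m) : False := by
  have conn_lcm : ∀ {a b : ℕ} (s : Multiset ℕ), a.Prime → b.Prime → s.sum ≤ k → (∀ a ∈ s, 2 ≤ a) →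
      Even (s.sum + s.card) → a ∈ s → b ∈ s → PG.Conn (alternatingGroup (Fin k)) a b := by
    intro a b s ha hb h1 h2 h3 has hbs
    obtain ⟨g, hg⟩ := exists_alt s h1 h2 h3
    refine PG.conn_of_orderOf ha hb (x := g) ?_ ?_
    · rw [hg]; exact Multiset.dvd_lcm has
    · rw [hg]; exact Multiset.dvd_lcm hbs
  have hge : ∀ r : ℕ, r.Prime → r ≠ 2 → ¬ PG.Conn (alternatingGroup (Fin k)) 2 r → k ≤ r + 2 := by
    intro r hr hr2 hnc
    by_contra hlt
    have hodd : r % 2 = 1 := hr.eq_two_or_odd.resolve_left hr2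
    have hr2' := hr.two_le
    rcases Nat.lt_or_ge (r + 3) k with h | h
    · apply hnc
      refine conn_lcm {r, 2, 2} Nat.prime_two hr ?_ ?_ ?_ (by simp) (by simp)
      · simp; omega
      · intro a ha
        simp at ha
        rcases ha with rfl | rfl
        · exact hr2'
        · exact le_rfl
      · rw [Nat.even_iff]
        simp
        omega
    · apply hnc
      have c1 : PG.Conn (alternatingGroup (Fin k)) 2 3 := by
        refine conn_lcm {3, 2, 2} Nat.prime_two Nat.prime_three ?_ ?_ ?_ (by simp) (by simp)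
        · simp; omega
        · intro a ha
          simp at ha
          omega
        · rw [Nat.even_iff]; simp
      refine c1.trans (conn_lcm {r, 3} Nat.prime_three hr ?_ ?_ ?_ (by simp) (by simp))
      · simp; omega
      · intro a ha
        simp at ha
        omega
      · rw [Nat.even_iff]
        simp
        omega
  have hle : ∀ r : ℕ, r.Prime → r ∣ Nat.card (alternatingGroup (Fin k)) → r ≤ k := by
    intro r hr hd
    exact (hr.dvd_factorial).1 (hd.trans (card_alt_dvd (by omega)))
  have hp1 := hge p B.A.hp B.A.hp2 B.not_conn_p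
  have hp2 := hle p B.A.hp B.gp
  have hpo := B.A.podd
  obtain ⟨r, hr, hrn⟩ := B.exists_prime
  have hdet : ∀ s : ℕ, s.Prime → s ∣ n → s ≠ p ∧ s % 2 = 1 ∧ k ≤ s + 2 ∧ s ≤ k := by
    intro s hs hsn
    refine ⟨?_, hs.eq_two_or_odd.resolve_left (B.ne_two hsn), hge s hs (B.ne_two hsn) (B.not_conn_n hs hsn),
      hle s hs (B.gn s hs hsn)⟩
    rintro rfl
    exact B.A.not_p_dvd_n hsn
  have hr1 := hdet r hr hrn
  have huniq : ∀ s : ℕ, s.Prime → s ∣ n → s = r := by
    intro s hs hsn
    have := hdet s hs hsn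
    omega
  have := B.single huniq
  omega

/-- **Alternating groups.** -/
theorem altL2_of_alt {S : Type*} [Group S] (h : Cfsg.IsAlternating S) {p f n m : ℕ} (B : PB S p f n m) :
    RedTwo.AltL2 S := by
  obtain ⟨k, hk, ⟨e⟩⟩ := h
  rcases Nat.lt_or_ge k 8 with h8 | h8
  · have h5 : k = 5 ∨ k = 6 ∨ k = 7 := by omega
    rcases h5 with rfl | rfl | rfl
    · exact altL2_five e
    · exact altL2_six e
    · exact Or.inl ⟨e⟩
  · exact (not_alt h8 (B.congr e)).elim

end Cfsg.Agent.H824.PG
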