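import Cfsg.Agent.H824.PG.Base
import Mathlib.NumberTheory.Multiplicity

/-!
# Arithmetic of `p ^ k ± 1`, `k ≥ 3` odd
-/

set_option autoImplicit false

namespace Cfsg.Agent.H824.PG

open Cfsg.Agent.H94 Cfsg.Agent.H371

/-- lifting the exponent, odd part, integers -/
theorem lteZ {D : ℕ} {P : ℤ} {n : ℕ} (hDo : Odd D) (hD : (D : ℤ) ∣ P ^ n - 1)
    (hr : ∀ r : ℕ, r.Prime → r ∣ D → (r : ℤ) ∣ P - 1) : (D : ℤ) ∣ (P - 1) * n := by
  rw [Int.natCast_dvd, Nat.dvd_iff_prime_pow_dvd_dvd]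
  intro r i hrp hi
  rcases Nat.eq_zero_or_pos i with rfl | hi0
  · simp
  have hrD : r ∣ D := (dvd_pow_self r hi0.ne').trans hi
  have hr1 := hr r hrp hrD
  have hro : Odd r := hDo.of_dvd_nat hrD
  have hrP : ¬ (r : ℤ) ∣ P := by
    intro h
    have h1 : (r : ℤ) ∣ 1 := by
      have := dvd_sub h hr1
      rwa [sub_sub_cancel] at this
    exact hrp.one_lt.ne' (by
      have := Int.natCast_dvd_natCast.1 (by simpa using h1 : (r : ℤ) ∣ ((1 : ℕ) : ℤ))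
      exact Nat.dvd_one.1 this)
  rw [← Int.natCast_dvd]
  have h1 : ((r : ℤ)) ^ i ∣ P ^ n - 1 ^ n := by
    rw [one_pow]
    refine dvd_trans ?_ hD
    exact_mod_cast hi
  have h2 := Int.emultiplicity_pow_sub_pow hrp hro hr1 hrP n
  have h3 : (i : ℕ∞) ≤ emultiplicity (r : ℤ) (P ^ n - 1 ^ n) := pow_dvd_iff_le_emultiplicity.1 h1
  rw [h2, ← Int.natCast_emultiplicity, ← emultiplicity_mul (Nat.prime_iff_prime_int.1 hrp)] at h3
  have h4 := pow_dvd_iff_le_emultiplicity.2 h3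
  exact_mod_cast h4

/-- sign and the number `c = (p + e) / 2` -/
structure Ep (p k n m : ℕ) (e : ℤ) (c : ℕ) : Prop where
  he : e = 1 ∨ e = -1
  hn : 2 * (n : ℤ) = (p : ℤ) ^ k + e
  hm : 2 * (m : ℤ) = (p : ℤ) ^ k - e
  hc : 2 * (c : ℤ) = p + e
  cn : c ∣ n

theorem sub_dvd {p : ℤ} {e : ℤ} (he : e = 1 ∨ e = -1) {j l : ℕ} (hl : Odd l) :
    p ^ j + e ∣ p ^ (j * l) + e := by
  have h1 : (-e) ^ l = -e := by
    rcases he with rfl | rfl
    · exact hl.neg_one_pow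
    · simp
  have h2 : (p ^ j + e) ∣ (p ^ j) ^ l - (-e) ^ l := by
    have := sub_dvd_pow_sub_pow (p ^ j) (-e) l
    rwa [sub_neg_eq_add] at this
  rwa [h1, sub_neg_eq_add, ← pow_mul] at h2

namespace Ak
variable {p k n m : ℕ} (A : Ak p k n m)
include A

theorem exists_ep : ∃ (e : ℤ) (c : ℕ), Ep p k n m e c := by
  obtain ⟨e, he, hn, hm⟩ : ∃ e : ℤ, (e = 1 ∨ e = -1) ∧ 2 * (n : ℤ) = (p : ℤ) ^ k + e ∧
      2 * (m : ℤ) = (p : ℤ) ^ k - e := by
    rcases A.h with ⟨h1, h2⟩ | ⟨h1, h2⟩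
    · refine ⟨1, Or.inl rfl, by exact_mod_cast h1, ?_⟩
      have : ((2 * m + 1 : ℕ) : ℤ) = ((p ^ k : ℕ) : ℤ) := by rw [h2]
      push_cast at this
      linarith
    · refine ⟨-1, Or.inr rfl, ?_, ?_⟩
      · have : ((2 * n + 1 : ℕ) : ℤ) = ((p ^ k : ℕ) : ℤ) := by rw [h1]
        push_cast at this
        linarith
      · have : ((2 * m : ℕ) : ℤ) = ((p ^ k + 1 : ℕ) : ℤ) := by rw [h2]
        push_cast at this
        linarith
  have hp3 := A.p3
  have hpo := A.podd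
  obtain ⟨c, hc⟩ : ∃ c : ℕ, 2 * (c : ℤ) = p + e := by
    refine ⟨((p : ℤ) + e).toNat / 2, ?_⟩
    rcases he with rfl | rfl <;> omega
  refine ⟨e, c, he, hn, hm, hc, ?_⟩
  have h1 : (p : ℤ) ^ 1 + e ∣ (p : ℤ) ^ (1 * k) + e := sub_dvd he A.ko
  rw [pow_one, one_mul, ← hc, ← hn] at h1
  have h2 : (c : ℤ) ∣ n := Int.dvd_of_mul_dvd_mul_left (by norm_num) h1
  exact_mod_cast h2

end Ak

namespace Ep
variable {p k n m : ℕ} {e : ℤ} {c : ℕ} (E : Ep p k n m e c) (A : Ak p k n m)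

section
include E A

theorem c_odd : c % 2 = 1 := by
  have h1 := A.hn.of_dvd_nat E.cn
  exact Nat.odd_iff.1 h1

theorem p_mod : (e = 1 ∧ p % 4 = 1) ∨ (e = -1 ∧ p % 4 = 3) := by
  have h1 := E.c_odd A
  have h2 := E.hc
  rcases E.he with rfl | rfl
  · left; exact ⟨rfl, by omega⟩
  · right; exact ⟨rfl, by omega⟩

theorem p_eq_three (h : c = 1) : p = 3 := by
  have h2 := E.hc
  have h3 := A.p3
  rw [h] at h2
  rcases E.he with rfl | rfl <;> omega

/-- the numbers `(p ^ j + e) / 2` -/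
theorem exists_N {j : ℕ} (hj : j ∣ k) : ∃ N : ℕ, 2 * (N : ℤ) = (p : ℤ) ^ j + e ∧ N ∣ n ∧ N % 2 = 1 := by
  obtain ⟨l, hl⟩ := hj
  have hjo : Odd j := A.ko.of_dvd_nat (Dvd.intro _ hl.symm)
  have hlo : Odd l := A.ko.of_dvd_nat (Dvd.intro_left _ hl.symm)
  have hp3 := A.p3
  have hpo : Odd p := Nat.odd_iff.2 A.podd
  have h0 : Odd (p ^ j) := hpo.pow
  have h1 : 3 ≤ p ^ j := hp3.trans (Nat.le_self_pow (by rintro rfl; exact absurd hjo (by decide)) p)
  obtain ⟨N, hN⟩ : ∃ N : ℕ, 2 * (N : ℤ) = (p : ℤ) ^ j + e := by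
    refine ⟨(((p ^ j : ℕ) : ℤ) + e).toNat / 2, ?_⟩
    rw [Nat.odd_iff] at h0
    have : ((p : ℤ) ^ j) = ((p ^ j : ℕ) : ℤ) := by push_cast; rfl
    rw [this]
    rcases E.he with h | h <;> rw [h] <;> omega
  have h2 : (p : ℤ) ^ j + e ∣ (p : ℤ) ^ (j * l) + e := sub_dvd E.he hlo
  rw [← hl, ← hN, ← E.hn] at h2
  have h3 : (N : ℤ) ∣ n := Int.dvd_of_mul_dvd_mul_left (by norm_num) h2
  have h4 : N ∣ n := by exact_mod_cast h3
  exact ⟨N, hN, h4, Nat.odd_iff.1 (A.hn.of_dvd_nat h4)⟩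

/-- a primitive prime -/
theorem exists_u {j : ℕ} (hj : j.Prime) (hjk : j ∣ k) {N : ℕ} (hN : 2 * (N : ℤ) = (p : ℤ) ^ j + e) :
    ∃ u : ℕ, u.Prime ∧ u ∣ N ∧ ¬ u ∣ c := by
  obtain ⟨N', hN', hNn, hNo⟩ := E.exists_N A hjk
  have : N' = N := by omega
  subst this
  by_contra hcon
  push Not at hcon
  have hj3 : 3 ≤ j := by
    have h1 := hj.two_le
    have h2 : Odd j := A.ko.of_dvd_nat hjk
    rw [Nat.odd_iff] at h2
    omega
  have hjo : Odd j := A.ko.of_dvd_nat hjk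
  have he2 : e * e = 1 := by rcases E.he with h | h <;> rw [h] <;> norm_num
  have hP : (-e * p : ℤ) ^ j - 1 = -e * (2 * N') := by
    have h1 : (-e) ^ j = -e := by
      rcases E.he with h | h <;> rw [h]
      · exact hjo.neg_one_pow
      · simp
    rw [mul_pow, h1, hN']
    linear_combination he2
  have hP1 : (-e * p : ℤ) - 1 = -e * (2 * c) := by
    rw [E.hc]
    linear_combination he2
  have h1 : (N' : ℤ) ∣ (-e * p - 1) * j := by
    refine lteZ (Nat.odd_iff.2 hNo) ?_ ?_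
    · rw [hP]
      exact dvd_mul_of_dvd_right (dvd_mul_left _ _) _
    · intro r hr hrN
      rw [hP1]
      exact dvd_mul_of_dvd_right (dvd_mul_of_dvd_right (Int.natCast_dvd_natCast.2 (hcon r hr hrN)) _) _
  rw [hP1] at h1
  have h2 : (N' : ℤ) ∣ 2 * (c * j) := by
    have : (2 * (c * j) : ℤ) = -e * (-e * (2 * c) * j) := by
      linear_combination (-(2 * c * j : ℤ)) * he2
    rw [this]
    exact dvd_mul_of_dvd_right h1 _
  have h3 : N' ∣ 2 * (c * j) := by exact_mod_cast h2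
  have h4 : N' ∣ c * j := (Nat.coprime_two_right.2 (Nat.odd_iff.2 hNo)).dvd_of_dvd_mul_left h3
  have hc0 : 0 < c := by
    have := E.c_odd A
    omega
  have h5 := Nat.le_of_dvd (Nat.mul_pos hc0 hj.pos) h4
  -- size
  have hp3 := A.p3
  have h6 : ∀ i : ℕ, 3 ≤ i → (p + 1) * i + 2 < p ^ i := by
    intro i hi
    induction i, hi using Nat.le_induction with
    | base => nlinarith [Nat.mul_le_mul hp3 hp3, Nat.mul_le_mul (Nat.mul_le_mul hp3 hp3) hp3]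
    | succ i hi ih =>
      rw [pow_succ]
      have h1 : p ^ i * 3 ≤ p ^ i * p := Nat.mul_le_mul_left _ hp3
      have h2 : (p + 1) * 1 ≤ (p + 1) * i := Nat.mul_le_mul_left _ (by omega)
      have h3 : (p + 1) * (i + 1) = (p + 1) * i + (p + 1) * 1 := by ring
      omega
  have h7 := h6 j hj3
  have h8 : ((p : ℤ) + 1) * j + 2 < (p : ℤ) ^ j := by exact_mod_cast h7
  have h9 : (N' : ℤ) ≤ c * j := by exact_mod_cast h5
  have h10 := E.hc
  have hj0 : (0 : ℤ) < j := by exact_mod_cast hj.pos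
  rcases E.he with h | h <;> rw [h] at hN' h10 <;> nlinarith

/-- **If `n` is a prime power then `p = 3`.** -/
theorem single {r₀ : ℕ} (h : ∀ r : ℕ, r.Prime → r ∣ n → r = r₀) : p = 3 := by
  refine E.p_eq_three A ?_
  by_contra hc
  obtain ⟨r, hr, hrc⟩ := Nat.exists_prime_and_dvd hc
  have h1 := h r hr (hrc.trans E.cn)
  subst h1
  obtain ⟨j, hj, hjk⟩ := Nat.exists_prime_and_dvd (n := k) (by have := A.k3; omega)
  obtain ⟨N, hN, hNn, -⟩ := E.exists_N A hjk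
  obtain ⟨u, hu, huN, huc⟩ := E.exists_u A hj hjk hN
  have := h u hu (huN.trans hNn)
  subst this
  exact huc hrc

end

end Ep

end Cfsg.Agent.H824.PG
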