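import Cfsg.Agent.H371.Ar

/-!
# Prime graph classes of `PSL_2(p ^ k)`, `k ≥ 3` odd

`Cls p n m r s`: the primes `r`, `s` lie in the same of the three sets `{p}`, `π(n)`, `π(m)`.
`Cl S p n m`: the primes dividing the order of one element lie in one class.
-/

set_option autoImplicit false

namespace Cfsg.Agent.H824.PG

open Cfsg.Agent.H94 Cfsg.Agent.H371

/-- the same class -/
def Cls (p n m r s : ℕ) : Prop := (r = p ∧ s = p) ∨ (r ∣ n ∧ s ∣ n) ∨ (r ∣ m ∧ s ∣ m)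

/-- the primes dividing the order of one element lie in one class -/
def Cl (S : Type*) [Group S] (p n m : ℕ) : Prop :=
  ∀ g : S, ∀ r s : ℕ, r.Prime → s.Prime → r ∣ orderOf g → s ∣ orderOf g → Cls p n m r s

/-- the arithmetic: `Ar` with `k ≥ 3` odd -/
structure Ak (p k n m : ℕ) : Prop extends Ar p k n m where
  k3 : 3 ≤ k
  ko : Odd k

namespace Cl
variable {S T : Type*} [Group S] [Group T] {p k n m : ℕ}

theorem map (h : Cl S p n m) (φ : T →* S) (hφ : Function.Injective φ) : Cl T p n m := by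
  intro g r s hr hs h1 h2
  rw [← orderOf_injective φ hφ] at h1 h2
  exact h _ r s hr hs h1 h2

theorem of_surj (h : Cl S p n m) (φ : S →* T) (hφ : Function.Surjective φ) : Cl T p n m := by
  intro g r s hr hs h1 h2
  obtain ⟨g, rfl⟩ := hφ g
  have h3 := orderOf_map_dvd φ g
  exact h g r s hr hs (h1.trans h3) (h2.trans h3)

theorem of_two (h : Cl S p n m) (A : Ar p k n m) {g : S} {r : ℕ} (hr : r.Prime) (h2 : 2 ∣ orderOf g)
    (hrg : r ∣ orderOf g) : r ∣ m := by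
  rcases h g 2 r Nat.prime_two hr h2 hrg with ⟨h3, -⟩ | ⟨h3, -⟩ | ⟨-, h3⟩
  · exact absurd h3.symm A.hp2
  · exact absurd h3 A.not_two_dvd_n
  · exact h3

theorem of_p (h : Cl S p n m) (A : Ar p k n m) {g : S} {r : ℕ} (hr : r.Prime) (h2 : p ∣ orderOf g)
    (hrg : r ∣ orderOf g) : r = p := by
  rcases h g p r A.hp hr h2 hrg with ⟨-, h3⟩ | ⟨h3, -⟩ | ⟨h3, -⟩
  · exact h3
  · exact absurd h3 A.not_p_dvd_n
  · exact absurd h3 A.not_p_dvd_m

theorem of_n (h : Cl S p n m) (A : Ar p k n m) {g : S} {r s : ℕ} (hr : r.Prime) (hs : s.Prime)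
    (hrn : r ∣ n) (hrg : r ∣ orderOf g) (hsg : s ∣ orderOf g) : s ∣ n := by
  rcases h g r s hr hs hrg hsg with ⟨h3, -⟩ | ⟨-, h3⟩ | ⟨h3, -⟩
  · subst h3; exact absurd hrn A.not_p_dvd_n
  · exact h3
  · exact absurd (Nat.eq_one_of_dvd_coprimes A.cop_nm hrn h3) hr.one_lt.ne'

end Cl

end Cfsg.Agent.H824.PG
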