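import Cfsg.Agent.H824.PG.Num
import Cfsg.Agent.H371.Core.ExcTwo
import Cfsg.Agent.H371.Core.Classical

/-!
# `E₆(q)`, `E₇(q)`, `²E₆(q)`, `³D₄(q)`, unitary groups (prime graph version)
-/

set_option autoImplicit false
set_option linter.unusedSectionVars false

namespace Cfsg.Agent.H824.PG

open Cfsg Cfsg.Lie Cfsg.Lie.ChevalleyDatum Cfsg.Agent.H94 Cfsg.Agent.H378 Cfsg.Agent.H378.ExcAdj
open Cfsg.Agent.H564.NearTwo Cfsg.Agent.H371 Cfsg.Agent.H371.Core

/-- **No `E₆(q)`.** -/
theorem not_E6 {S : Type*} [Group S] (h : Cfsg.Lie.IsoChevE6 S) {p f n m : ℕ} (B : PB S p f n m) : False := by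
  obtain ⟨F, _, _, ⟨e⟩⟩ := h
  refine (B.congr e).not_two ?_
  intro a b ha hb ha2 hb2 hda hdb
  rcases ExcNear.near_E6 F ha hda with h1 | h1
  · exact Or.inl h1.conn.symm
  · rcases ExcNear.near_E6 F hb hdb with h2 | h2
    · exact Or.inr (Or.inl h2.conn.symm)
    · refine Or.inr (Or.inr (conn_of_conn ?_))
      exact H493.PGE6.conn9 ha hb (H378.ExcNear.not_dvd_of_od ha h1 (by norm_num) (by norm_num))
        (H378.ExcNear.not_dvd_of_od hb h2 (by norm_num) (by norm_num)) (H378.CycTab.dvd9 ha h1) (H378.CycTab.dvd9 hb h2)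

/-- **No `E₇(q)`.** -/
theorem not_E7 {S : Type*} [Group S] (h : Cfsg.Lie.IsoE7 S) {p f n m : ℕ} (B : PB S p f n m) : False := by
  obtain ⟨F, _, _, ⟨e⟩⟩ := h
  have B' := B.congr e
  by_cases h3 : Nat.card F ≤ 3
  · have h1 : 1 < Nat.card F := Finite.one_lt_card
    rcases (by omega : Nat.card F = 2 ∨ Nat.card F = 3) with hF | hF
    · refine B'.pair_false 73 127 (fun r hr hd => ?_) (by norm_num) (by norm_num)
      rcases ExcNear.near_E7 (F := F) hr hd with h | ⟨-, h | h⟩
      · exact Or.inl h.conn.symm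
      · right; right
        have h7 := H378.CycTab.dvd7 hr h
        rw [H378.CycTab.pv7, hF] at h7
        norm_num at h7
        have h8 : r ∣ 127 := by exact_mod_cast h7
        exact (Nat.prime_dvd_prime_iff_eq hr (by norm_num)).1 h8
      · right; left
        have h7 := H378.CycTab.dvd9 hr h
        rw [H378.CycTab.pv9, hF] at h7
        norm_num at h7
        have h8 : r ∣ 73 := by exact_mod_cast h7
        exact (Nat.prime_dvd_prime_iff_eq hr (by norm_num)).1 h8
    · refine B'.pair_false 757 1093 (fun r hr hd => ?_) (by norm_num) (by norm_num)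
      rcases ExcNear.near_E7 (F := F) hr hd with h | ⟨-, h | h⟩
      · exact Or.inl h.conn.symm
      · right; right
        have h7 := H378.CycTab.dvd7 hr h
        rw [H378.CycTab.pv7, hF] at h7
        norm_num at h7
        have h8 : r ∣ 1093 := by exact_mod_cast h7
        exact (Nat.prime_dvd_prime_iff_eq hr (by norm_num)).1 h8
      · right; left
        have h7 := H378.CycTab.dvd9 hr h
        rw [H378.CycTab.pv9, hF] at h7
        norm_num at h7
        have h8 : r ∣ 757 := by exact_mod_cast h7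
        exact (Nat.prime_dvd_prime_iff_eq hr (by norm_num)).1 h8
  · refine B'.not_two ?_
    intro a b ha hb ha2 hb2 hda hdb
    rcases ExcNear.near_E7 (F := F) ha hda with h | ⟨h, -⟩
    · exact Or.inl h.conn.symm
    · exact absurd h h3

/-- **No `²E₆(q)`.** -/
theorem not_2E6 {S : Type*} [Group S] (h : Cfsg.Lie.Iso2E6 S) {p f n m : ℕ} (B : PB S p f n m) : False := by
  obtain ⟨K, _, _, q, hq, hK, ⟨e⟩⟩ := h
  have B' := B.congr e
  have hcard := Cfsg.Agent.S1066.result hq hK
  have hcov : ∀ r : ℕ, r.Prime → r ∣ Nat.card ↥(twistedE6 K q) → H94.PG.Conn ↥(twistedE6 K q) 2 r ∨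
      (r ≠ 3 ∧ ((r : ℤ) ∣ H493.PGTorus.pv H493.PGCyc.c8 q ∨ (r : ℤ) ∣ H493.PGTorus.pv H493.PGCyc.c12 q ∨
        (r : ℤ) ∣ H493.PGTorus.pv H493.PGCyc.c18 q)) := by
    intro r hr hd
    by_cases hr3 : r = 3
    · rw [hr3]
      exact Or.inl (three_conn_2E6 hq hK)
    · rcases H493.PGE6T.cover hq.two_le hr (by rw [← hcard]; exact hd.mul_left _) with h | h
      · exact Or.inl (main_2E6 hq hK hr hr3 h)
      · exact Or.inr ⟨hr3, h⟩
  by_cases hq2 : q = 2
  · subst hq2
    have B'' : PB ↥(twistedE6 K 2) p f n m := B'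
    refine B''.finset_false {13, 17, 19} (fun r hr hd => ?_) (by decide +kernel)
    rcases hcov r hr hd with h | ⟨hr3, h | h | h⟩
    · exact Or.inl h
    · right
      rw [H493.PGCyc.pv_c8] at h
      norm_num at h
      have h8 : r ∣ 17 := by exact_mod_cast h
      rw [(Nat.prime_dvd_prime_iff_eq hr (by norm_num)).1 h8]
      simp
    · right
      rw [H493.PGCyc.pv_c12] at h
      norm_num at h
      have h8 : r ∣ 13 := by exact_mod_cast h
      rw [(Nat.prime_dvd_prime_iff_eq hr (by norm_num)).1 h8]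
      simp
    · right
      rw [H493.PGCyc.pv_c18] at h
      norm_num at h
      have h8 : r ∣ 3 * 19 := by exact_mod_cast h
      rcases hr.dvd_mul.1 h8 with h8 | h8
      · exact absurd ((Nat.prime_dvd_prime_iff_eq hr Nat.prime_three).1 h8) hr3
      · rw [(Nat.prime_dvd_prime_iff_eq hr (by norm_num)).1 h8]
        simp
  · refine B'.not_two ?_
    intro a b ha hb ha2 hb2 hda hdb
    rcases hcov a ha hda with h | ⟨ha3, h | h | h⟩
    · exact Or.inl h
    · exact Or.inl (eight_2E6 hq hK hq2 ha ha3 h)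
    · exact Or.inl (twelve_2E6 hq hK hq2 ha ha3 h)
    · rcases hcov b hb hdb with h' | ⟨hb3, h' | h' | h'⟩
      · exact Or.inr (Or.inl h')
      · exact Or.inr (Or.inl (eight_2E6 hq hK hq2 hb hb3 h'))
      · exact Or.inr (Or.inl (twelve_2E6 hq hK hq2 hb hb3 h'))
      · exact Or.inr (Or.inr (conn_of_conn (H493.PGE6T.conn18 hq hK ha hb ha3 hb3 h h')))

/-- **No `³D₄(q)`.** -/
theorem not_3D4 {S : Type*} [Group S] (h2 : 2 ∣ Nat.card S) (h : Cfsg.Lie.Iso3D4 S) {p f n m : ℕ} (B : PB S p f n m) :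
    False :=
  B.not_two (two_of_few h2 (H493.PGD4T.few_iso3D4 h))

/-- **No `PSU_n(q)`.** -/
theorem not_psu {S : Type*} [Group S] [Finite S] (h : Cfsg.IsPSU S) {p f n m : ℕ} (B : PB S p f n m) : False := by
  by_cases h1 : ∃ (F : Type) (_ : Field F) (_ : Fintype F), Fintype.card F = 3 ^ 2 ∧
      Nonempty (S ≃* Cfsg.PSU 4 F 3)
  · obtain ⟨F, _, _, hF, ⟨e⟩⟩ := h1
    refine B.pair_false 5 7 (fun r hr hd => ?_) (by norm_num) (by norm_num)
    rw [Nat.card_congr e.toEquiv] at hd
    rw [PG.conn_congr e]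
    rcases H948.UMain.psu_four_three hF hr hd with h | h | h
    · exact Or.inl h.conn.symm
    · right; simp [h]
    · right; simp [h]
  by_cases h2 : ∃ (F : Type) (_ : Field F) (_ : Fintype F), Fintype.card F = 2 ^ 2 ∧
      Nonempty (S ≃* Cfsg.PSU 6 F 2)
  · obtain ⟨F, _, _, hF, ⟨e⟩⟩ := h2
    refine B.pair_false 7 11 (fun r hr hd => ?_) (by norm_num) (by norm_num)
    rw [Nat.card_congr e.toEquiv] at hd
    rw [PG.conn_congr e]
    rcases H948.UMain.psu_six_two hF hr hd with h | h | h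
    · exact Or.inl h.conn.symm
    · right; simp [h]
    · right; simp [h]
  refine B.not_two fun {a b} ha hb ha2 hb2 hda hdb => ?_
  rcases H948.UMain.psu_three h ha hb ha2 hb2 hda hdb with h | h | h | h | h
  · exact Or.inl h
  · exact Or.inr (Or.inl h)
  · exact Or.inr (Or.inr h)
  · exact absurd h h1
  · exact absurd h h2


end Cfsg.Agent.H824.PG
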