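import Cfsg.Agent.H824.PG.Num
import Cfsg.Agent.H824.EEightNT
import Cfsg.Agent.H371.Core.Fam
import Cfsg.Agent.S1059
import Cfsg.Agent.S1062
import Cfsg.Agent.S1065

/-!
# `G₂(q)`, `F₄(q)`, `E₈(q)` (prime graph version)
-/

set_option autoImplicit false
set_option linter.unusedSectionVars false

namespace Cfsg.Agent.H824.PG

open CoxeterSystem Subgroup Cfsg Cfsg.Lie Cfsg.Lie.ChevalleyDatum
open Cfsg.Agent.ChevalleyStructure.CoxeterGeomTypes
open Cfsg.Agent.Nodes.RGDChev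
open Cfsg.Agent.BpExc.RowsUntw Cfsg.Agent.BpExc.FamInst
open Cfsg.Agent.H378 Cfsg.Agent.H378.SmallTor Cfsg.Agent.H378.AdjTab Cfsg.Agent.H378.CycTab Cfsg.Agent.H378.ExcAdj
open Cfsg.Agent.H94 Cfsg.Agent.H371 Cfsg.Agent.H371.CycEval Cfsg.Agent.H371.Core

universe u

theorem od_dvd {q r j : ℕ} (h : (r : ℤ) ∣ (q : ℤ) ^ j - 1) : od q r ∣ j := by
  refine orderOf_dvd_of_pow_eq_one ?_
  have h1 := (ZMod.intCast_zmod_eq_zero_iff_dvd _ _).2 h
  push_cast at h1
  exact sub_eq_zero.1 h1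

theorem od_zero {q r : ℕ} (hr : r.Prime) (h : r ∣ q) : od q r = 0 := by
  have := Fact.mk hr
  have h1 : (q : ZMod r) = 0 := (ZMod.natCast_eq_zero_iff q r).2 h
  rw [od, h1]
  exact orderOf_eq_zero_iff'.2 fun n hn h => by
    rw [zero_pow hn.ne'] at h
    exact zero_ne_one h

theorem od_dvd_sub {q r m : ℕ} (hr : r.Prime) (hm : m ≠ 0) (h : od q r = m) : m ∣ r - 1 := by
  have := Fact.mk hr
  have h0 : (q : ZMod r) ≠ 0 := by
    intro h0
    rw [od_zero hr ((ZMod.natCast_eq_zero_iff q r).1 h0)] at h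
    exact hm h.symm
  rw [← h]
  exact ZMod.orderOf_dvd_card_sub_one h0

namespace PB
variable {S : Type*} [Group S] [Finite S] {p k n m : ℕ}

/-- **Isolated primes in cyclic tori.** -/
theorem torus (B : PB S p k n m) {q : ℕ} (L : List (ℕ × ℕ))
    (h1 : ∀ r, r.Prime → r ∣ Nat.card S → ¬ PG.Conn S 2 r → ∃ t ∈ L, od q r = t.1)
    (h2 : ∀ t ∈ L, Tor S q t.1 t.2) : ∃ t ∈ L, ∃ t' ∈ L, t ≠ t' ∧ od q p = t.1 ∧ (∃ j, t.2 = p ^ j) ∧
      (∀ r : ℕ, r.Prime → (r ∣ n ↔ r ∣ t'.2)) := by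
  obtain ⟨t, ht, hpt⟩ := h1 p B.A.hp B.gp B.not_conn_p
  obtain ⟨r, hr, hrn⟩ := B.exists_prime
  obtain ⟨t', ht', hrt⟩ := h1 r hr (B.gn r hr hrn) (B.not_conn_n hr hrn)
  have T := h2 t ht
  have T' := h2 t' ht'
  have hrT := T'.dv r hr hrt
  have hT0 : t.2 ≠ 0 := by
    obtain ⟨g, hg⟩ := T.ex
    rw [← hg]
    exact (orderOf_pos g).ne'
  obtain ⟨j, hj⟩ := B.eq_pow hT0 T.ex (T.dv p B.A.hp hpt)
  refine ⟨t, ht, t', ht', ?_, hpt, ⟨j, hj⟩, fun s hs => ⟨fun h => ?_, fun h => ?_⟩⟩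
  · rintro rfl
    rw [hj] at hrT
    have := (Nat.prime_dvd_prime_iff_eq hr B.A.hp).1 (hr.dvd_of_dvd_pow hrT)
    subst this
    exact B.A.not_p_dvd_n hrn
  · exact B.dvd_centralizer hr hrn hs h hrT fun x hx => T'.ct r hr hrt x hx
  · exact B.dvd_n T'.ex hr hrn hrT hs h

end PB

section arith
variable {p k n m : ℕ} {e : ℤ} {c : ℕ}

theorem Ep.two_n (E : Ep p k n m e c) {r : ℕ} (h : r ∣ n) : (r : ℤ) ∣ (p : ℤ) ^ k + e := by
  rw [← E.hn]
  exact dvd_mul_of_dvd_right (Int.natCast_dvd_natCast.2 h) _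

theorem Ep.two_m (E : Ep p k n m e c) {r : ℕ} (h : r ∣ m) : (r : ℤ) ∣ (p : ℤ) ^ k - e := by
  rw [← E.hm]
  exact dvd_mul_of_dvd_right (Int.natCast_dvd_natCast.2 h) _

/-- primes of `c`: `p ≡ -e`, and `p ^ j ≡ ±1` -/
theorem Ep.res (E : Ep p k n m e c) {r : ℕ} (h : r ∣ c) (j : ℕ) :
    (r : ℤ) ∣ (p : ℤ) ^ j - 1 ∨ (r : ℤ) ∣ (p : ℤ) ^ j + 1 := by
  have hpe : (r : ℤ) ∣ (p : ℤ) - (-e) := by
    rw [sub_neg_eq_add, ← E.hc]
    exact dvd_mul_of_dvd_right (Int.natCast_dvd_natCast.2 h) _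
  have h1 : (r : ℤ) ∣ (p : ℤ) ^ j - (-e) ^ j := hpe.trans (sub_dvd_pow_sub_pow _ _ j)
  have h2 : (-e) ^ j = 1 ∨ (-e) ^ j = -1 := by
    rcases E.he with h | h <;> rw [h]
    · exact neg_one_pow_eq_or ℤ j
    · left; simp
  rcases h2 with h2 | h2
  · left; rwa [h2] at h1
  · right; rwa [h2, sub_neg_eq_add] at h1

/-- the same for `e = -1` -/
theorem Ep.res_neg (E : Ep p k n m (-1) c) {r : ℕ} (h : r ∣ c) (j : ℕ) :
    (r : ℤ) ∣ (p : ℤ) ^ j - 1 := by
  have hpe : (r : ℤ) ∣ (p : ℤ) - 1 := by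
    have := E.hc
    rw [← sub_eq_add_neg] at this
    rw [← this]
    exact dvd_mul_of_dvd_right (Int.natCast_dvd_natCast.2 h) _
  have h1 : (r : ℤ) ∣ (p : ℤ) ^ j - 1 ^ j := hpe.trans (sub_dvd_pow_sub_pow _ _ j)
  rwa [one_pow] at h1

/-- a prime of `n` does not divide `m` -/
theorem Ak.not_m (A : Ak p k n m) {r : ℕ} (hr : r.Prime) (hrn : r ∣ n) : ¬ r ∣ m := fun h =>
  hr.one_lt.ne' (Nat.eq_one_of_dvd_coprimes A.cop_nm hrn h)

theorem Ak.odd_of (A : Ak p k n m) {r : ℕ} (hrn : r ∣ n) : r ≠ 2 := by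
  rintro rfl
  exact A.not_two_dvd_n hrn

theorem prime_dvd_small {r : ℕ} (hr : r.Prime) {z : ℤ} (h : (r : ℤ) ∣ z) {q : ℕ} (hq : q.Prime) (hz : z = q ∨ z = -q) :
    r = q := by
  have : (r : ℤ) ∣ (q : ℤ) := by
    rcases hz with rfl | rfl
    · exact h
    · exact (dvd_neg.1 h)
  exact (Nat.prime_dvd_prime_iff_eq hr hq).1 (by exact_mod_cast this)

/-- `p = 3`, `e = -1`: `3 ∤ n`, `3 ∤ m` -/
theorem Ak.not_three (A : Ak p k n m) (h3 : p = 3) (h : 3 ∣ n ∨ 3 ∣ m) : False := by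
  subst h3
  rcases h with h | h
  · exact A.not_p_dvd_n h
  · exact A.not_p_dvd_m h

/-- Numerics for `G₂(q)`: `T = q² + s q + 1`, `T' = q² - s q + 1`. -/
theorem num_G2 (A : Ak p k n m) (hsg : ∀ r₀ : ℕ, (∀ r : ℕ, r.Prime → r ∣ n → r = r₀) → p = 3) {q : ℤ} (hq : 3 ≤ q)
    {s : ℤ} (hs : s = 1 ∨ s = -1) {j : ℕ} (hj : q ^ 2 + s * q + 1 = (p : ℤ) ^ j)
    (hn : ∀ r : ℕ, r.Prime → (r ∣ n ↔ (r : ℤ) ∣ q ^ 2 - s * q + 1))
    (hm : ∀ r : ℕ, r.Prime → (r : ℤ) ∣ q * (q ^ 2 - 1) → r ∣ m) : False := by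
  obtain ⟨e, c, E⟩ := A.exists_ep
  have hs2 : s * s = 1 := by rcases hs with h | h <;> rw [h] <;> norm_num
  have hT1 : ∀ r : ℕ, r.Prime → r ∣ n → ¬ (r : ℤ) ∣ q ^ 2 + s * q := by
    intro r hr hrn hd
    have h1 := (hn r hr).1 hrn
    have hpr : Prime (r : ℤ) := Nat.prime_iff_prime_int.1 hr
    have h2 : (r : ℤ) ∣ q * (q + s) := by
      have : q * (q + s) = q ^ 2 + s * q := by ring
      rw [this]; exact hd
    have h3 : (r : ℤ) ∣ q * (q ^ 2 - 1) := by
      have : q * (q ^ 2 - 1) = q * (q + s) * (q - s) := by linear_combination q * hs2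
      rw [this]; exact dvd_mul_of_dvd_left h2 _
    exact A.not_m hr hrn (hm r hr h3)
  rcases E.p_mod A with ⟨rfl, hp4⟩ | ⟨rfl, hp4⟩
  · -- `e = 1`
    have hv1 : 1 < q ^ 2 + s * q + 1 := by
      rcases hs with rfl | rfl <;> nlinarith
    have hD : (((q ^ 2 + s * q).natAbs : ℕ) : ℤ) ∣ q ^ 2 + s * q := Int.natAbs_dvd.2 dvd_rfl
    obtain ⟨M, hM, h7⟩ := EEightNT.step (v := q ^ 2 + s * q + 1) (l := 7) (D := (q ^ 2 + s * q).natAbs) A.hp hp4
      A.ko hj hv1 (by rw [add_sub_cancel_right]; exact hD) (by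
        intro r hr hrD
        have h1 : (r : ℤ) ∣ q ^ 2 + s * q := (Int.natCast_dvd_natCast.2 hrD).trans hD
        have h3 : (r : ℤ) ∣ q * (q ^ 2 - 1) := by
          have : q * (q ^ 2 - 1) = (q ^ 2 + s * q) * (q - s) := by linear_combination q * hs2
          rw [this]; exact dvd_mul_of_dvd_left h1 _
        have h4 := E.two_m (hm r hr h3)
        have h5 : 1 ≤ p ^ k := Nat.one_le_pow _ _ A.hp.pos
        have h6 : ((p ^ k - 1 : ℕ) : ℤ) = (p : ℤ) ^ k - 1 := by push_cast [Nat.cast_sub h5]; rfl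
        rw [← h6] at h4
        exact_mod_cast h4) (by
        intro P n' hP hn' hPn hle
        have h3 := EEightNT.bern hP hn'
        have h4 : (((q ^ 2 + s * q).natAbs : ℕ) : ℤ) = (P : ℤ) ^ n' - 1 := by
          rw [← hPn, ← Int.abs_eq_natAbs, abs_of_pos (by linarith), add_sub_cancel_right]
        have h5 : 1 ≤ P ^ n' := Nat.one_le_pow _ _ (by omega)
        have h6 : (((P - 1) * n' : ℕ) : ℤ) < ((P ^ n' - 1 : ℕ) : ℤ) := by exact_mod_cast h3
        rw [Nat.cast_sub h5] at h6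
        have h7 : (((q ^ 2 + s * q).natAbs : ℕ) : ℤ) ≤ (((P - 1) * n' : ℕ) : ℤ) := by exact_mod_cast hle
        push_cast at h6 h7 h4
        linarith) (by
        intro r hr hr2 hrk hd
        have hrn : r ∣ n := by
          have h1 : (r : ℤ) ∣ 2 * (n : ℤ) := by rw [E.hn]; exact_mod_cast hrk
          have h2 : r ∣ 2 * n := by exact_mod_cast h1
          exact (hr.dvd_mul.1 h2).resolve_left fun h => hr2 ((Nat.prime_dvd_prime_iff_eq hr Nat.prime_two).1 h)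
        have h1 := (hn r hr).1 hrn
        refine prime_dvd_small hr (z := 7) ?_ (by norm_num) (Or.inl rfl)
        have h2 : (7 : ℤ) = (q ^ 2 - s * q + 1) * 4 - (q ^ 2 + s * q + 1 + 1 - (q ^ 2 - s * q + 1)) * (2 * s * q - 3) := by
          linear_combination (4 * q ^ 2) * hs2
        rw [h2]
        exact dvd_sub (dvd_mul_of_dvd_left h1 _) (dvd_mul_of_dvd_left (dvd_sub hd h1) _))
    have h8 : (2 * q + s) ^ 2 + 7 = 8 * 7 ^ M := by
      push_cast at h7
      linear_combination 4 * h7 + hs2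
    have hM1 : M = 1 := by
      by_contra hc
      have h49 : (7 : ℤ) ^ 2 ∣ 7 ^ M := pow_dvd_pow 7 (by omega)
      obtain ⟨z, hz⟩ := h49
      have h9 : (7 : ℤ) ∣ (2 * q + s) ^ 2 := by
        rw [hz] at h8
        exact ⟨8 * (7 * z) - 1, by linarith⟩
      have h10 : (7 : ℤ) ∣ 2 * q + s := Prime.dvd_of_dvd_pow (Int.prime_iff_natAbs_prime.2 (by norm_num)) h9
      obtain ⟨w, hw⟩ := h10
      rw [hz, hw] at h8
      have h11 : 7 * w ^ 2 + 1 = 8 * (7 * z) := by linarith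
      omega
    rw [hM1] at h8
    norm_num at h8
    have hq4 : q ≤ 4 := by
      rcases hs with rfl | rfl <;> nlinarith
    have hq34 : (q = 3 ∧ s = 1) ∨ (q = 4 ∧ s = -1) := by
      rcases hs with rfl | rfl
      · left
        refine ⟨?_, rfl⟩
        rcases (by omega : q = 3 ∨ q = 4) with h | h
        · exact h
        · rw [h] at h8; norm_num at h8
      · right
        refine ⟨?_, rfl⟩
        rcases (by omega : q = 3 ∨ q = 4) with h | h
        · rw [h] at h8; norm_num at h8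
        · exact h
    rcases hq34 with ⟨rfl, rfl⟩ | ⟨rfl, rfl⟩
    · have := hsg 7 fun r hr hrn => by
        have h1 := (hn r hr).1 hrn
        norm_num at h1
        exact prime_dvd_small hr h1 (by norm_num) (Or.inl rfl)
      omega
    · have h1 : 3 ∣ n := (hn 3 (by norm_num)).2 (by norm_num)
      exact A.not_m (by norm_num) h1 (hm 3 (by norm_num) (by norm_num))
  · -- `e = -1`
    have hc1 : c = 1 := by
      by_contra hc
      obtain ⟨r, hr, hrc⟩ := Nat.exists_prime_and_dvd hc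
      have hrn := hrc.trans E.cn
      have h1 := E.res_neg hrc j
      rw [← hj, add_sub_cancel_right] at h1
      exact hT1 r hr hrn h1
    have hp3 := E.p_eq_three A hc1
    have h3 : (3 : ℤ) ∣ q ^ 2 + s * q + 1 := by
      rw [hj, hp3]
      refine dvd_pow_self _ ?_
      rintro rfl
      rw [pow_zero] at hj
      rcases hs with rfl | rfl <;> nlinarith
    have h4 : ((3 : ℕ) : ℤ) ∣ q * (q ^ 2 - 1) := by
      have : ∀ z : ZMod 3, z * (z ^ 2 - 1) = 0 := by decide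
      rw [← (ZMod.intCast_zmod_eq_zero_iff_dvd _ 3)]
      push_cast
      exact this _
    exact A.not_three hp3 (Or.inr (hm 3 (by norm_num) h4))

/-- Numerics for `F₄(q)`. -/
theorem num_F4 (A : Ak p k n m) {q : ℤ} {T T' : ℤ}
    (h : (T = q ^ 4 + 1 ∧ T' = q ^ 4 - q ^ 2 + 1) ∨ (T = q ^ 4 - q ^ 2 + 1 ∧ T' = q ^ 4 + 1)) (hT : 1 < T)
    {j : ℕ} (hj : T = (p : ℤ) ^ j) (hn : ∀ r : ℕ, r.Prime → (r ∣ n ↔ (r : ℤ) ∣ T')) : False := by
  obtain ⟨e, c, E⟩ := A.exists_ep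
  have hc1 : c = 1 := by
    by_contra hc
    obtain ⟨r, hr, hrc⟩ := Nat.exists_prime_and_dvd hc
    have hrn := hrc.trans E.cn
    have hr2 := A.odd_of hrn
    have h1 := E.res hrc j
    rw [← hj] at h1
    have h2 := (hn r hr).1 hrn
    have hpr : Prime (r : ℤ) := Nat.prime_iff_prime_int.1 hr
    have hr1 : ¬ (r : ℤ) ∣ 1 := fun h => hpr.not_isUnit (isUnit_of_dvd_one h)
    have hr2' : ¬ (r : ℤ) ∣ 2 := fun h => hr2 (prime_dvd_small hr h Nat.prime_two (Or.inl rfl))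
    rcases h with ⟨rfl, rfl⟩ | ⟨rfl, rfl⟩
    · rcases h1 with h1 | h1
      · rw [add_sub_cancel_right] at h1
        have h3 := hpr.dvd_of_dvd_pow h1
        apply hr1
        have h4 : (1 : ℤ) = (q ^ 4 - q ^ 2 + 1) - q * (q ^ 3 - q) := by ring
        rw [h4]
        exact dvd_sub h2 (dvd_mul_of_dvd_left h3 _)
      · have h3 : r = 3 := by
          refine prime_dvd_small hr (z := 3) ?_ Nat.prime_three (Or.inl rfl)
          have h4 : (3 : ℤ) = (q ^ 4 + 1 + 1) - (q ^ 2 - 1) * ((q ^ 4 + 1 + 1) - (q ^ 4 - q ^ 2 + 1)) := by ring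
          rw [h4]
          exact dvd_sub h1 (dvd_mul_of_dvd_right (dvd_sub h1 h2) _)
        subst h3
        have : ∀ z : ZMod 3, z ^ 4 - z ^ 2 + 1 ≠ 0 := by decide
        refine this (q : ZMod 3) ?_
        have h5 := (ZMod.intCast_zmod_eq_zero_iff_dvd _ 3).2 h2
        push_cast at h5
        exact h5
    · rcases h1 with h1 | h1
      · rw [add_sub_cancel_right] at h1
        apply hr2'
        have h4 : (2 : ℤ) = (q ^ 4 + 1) * 2 - (q ^ 4 - q ^ 2) * 2 - q ^ 2 * 2 := by ring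
        have h3 : (r : ℤ) ∣ q ^ 2 * (q ^ 2 - 1) := by
          have : q ^ 2 * (q ^ 2 - 1) = q ^ 4 - q ^ 2 := by ring
          rw [this]; exact h1
        rcases hpr.dvd_or_dvd h3 with h5 | h5
        · have h6 : (2 : ℤ) = (q ^ 4 + 1) * 2 - q ^ 2 * (2 * q ^ 2) := by ring
          rw [h6]
          exact dvd_sub (dvd_mul_of_dvd_left h2 _) (dvd_mul_of_dvd_left h5 _)
        · have h6 : (2 : ℤ) = (q ^ 4 + 1) - (q ^ 2 - 1) * (q ^ 2 + 1) := by ring
          rw [h6]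
          exact dvd_sub h2 (dvd_mul_of_dvd_left h5 _)
      · apply hr2'
        have h3 : (r : ℤ) ∣ q ^ 2 - 1 := by
          have : q ^ 2 - 1 = (q ^ 4 + 1) - (q ^ 4 - q ^ 2 + 1 + 1) := by ring
          rw [this]; exact dvd_sub h2 h1
        have h6 : (2 : ℤ) = (q ^ 4 + 1) - (q ^ 2 - 1) * (q ^ 2 + 1) := by ring
        rw [h6]
        exact dvd_sub h2 (dvd_mul_of_dvd_left h3 _)
  have hp3 := E.p_eq_three A hc1
  have h3 : ((3 : ℕ) : ℤ) ∣ T := by
    rw [hj, hp3]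
    refine dvd_pow_self _ ?_
    rintro rfl
    rw [pow_zero] at hj
    omega
  have h5 := (ZMod.intCast_zmod_eq_zero_iff_dvd _ 3).2 h3
  rcases h with ⟨rfl, -⟩ | ⟨rfl, -⟩
  · have : ∀ z : ZMod 3, z ^ 4 + 1 ≠ 0 := by decide
    push_cast at h5
    exact this _ h5
  · have : ∀ z : ZMod 3, z ^ 4 - z ^ 2 + 1 ≠ 0 := by decide
    push_cast at h5
    exact this _ h5

end arith

/-! ### `G₂(q)` -/

theorem not_G2' (F : Type u) [Field F] [Finite F] (hF : 3 ≤ Nat.card F) {p k n m : ℕ}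
    (B : PB ↥(chevG2.group F) p k n m) : False := by
  have hcard : Nat.card ↥(chevG2.group F) = Nat.card F ^ 6 * (Nat.card F ^ 2 - 1) * (Nat.card F ^ 6 - 1) := by
    have := Fintype.ofFinite F
    exact Cfsg.Agent.S1059.result (F := F) (q := Nat.card F) Nat.card_eq_fintype_card.symm
  obtain ⟨t, ht, t', ht', hne, -, ⟨j, hj⟩, hn⟩ := B.torus (q := Nat.card F)
    [(3, (ev 3 (Nat.card F : ℕ)).natAbs), (6, (ev 6 (Nat.card F : ℕ)).natAbs)]
    (by
      intro r hr hd hnc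
      rcases adj_G2 F hr hd with h | h | h | h
      · rw [h] at hnc
        exact absurd Relation.ReflTransGen.refl hnc
      · exact absurd h.conn.symm hnc
      · exact ⟨(3, (ev 3 (Nat.card F : ℕ)).natAbs), by simp, h⟩
      · exact ⟨(6, (ev 6 (Nat.card F : ℕ)).natAbs), by simp, h⟩)
    (by
      intro t ht
      simp only [List.mem_cons, List.not_mem_nil, or_false] at ht
      rcases ht with rfl | rfl
      · exact tor_G2_3 F
      · exact tor_G2_6 F)
  have h3 : (((ev 3 (Nat.card F : ℕ)).natAbs : ℕ) : ℤ) = (Nat.card F : ℤ) ^ 2 + Nat.card F + 1 := by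
    rw [← ev3, Int.natCast_natAbs, abs_of_pos (ev_pos (by norm_num) _)]
  have h6 : (((ev 6 (Nat.card F : ℕ)).natAbs : ℕ) : ℤ) = (Nat.card F : ℤ) ^ 2 - Nat.card F + 1 := by
    rw [← ev6, Int.natCast_natAbs, abs_of_pos (ev_pos (by norm_num) _)]
  have hm : ∀ r : ℕ, r.Prime → (r : ℤ) ∣ (Nat.card F : ℤ) * ((Nat.card F : ℤ) ^ 2 - 1) → r ∣ m := by
    intro r hr hd
    have h1 : 1 ≤ Nat.card F ^ 2 := Nat.one_le_pow _ _ (by omega)
    have hpr : Prime (r : ℤ) := Nat.prime_iff_prime_int.1 hr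
    have hod : od (Nat.card F) r ≤ 2 := by
      rcases hpr.dvd_or_dvd hd with h | h
      · rw [od_zero hr (by exact_mod_cast h)]; omega
      · exact Nat.le_of_dvd (by norm_num) (od_dvd h)
    have hdS : r ∣ Nat.card ↥(chevG2.group F) := by
      rw [hcard]
      refine dvd_mul_of_dvd_left ?_ _
      have h2 : r ∣ Nat.card F * (Nat.card F ^ 2 - 1) := by
        have : ((Nat.card F * (Nat.card F ^ 2 - 1) : ℕ) : ℤ) = (Nat.card F : ℤ) * ((Nat.card F : ℤ) ^ 2 - 1) := by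
          push_cast [Nat.cast_sub h1]; ring
        rw [← this] at hd
        exact_mod_cast hd
      exact h2.trans (Nat.mul_dvd_mul_right (dvd_pow_self _ (by norm_num)) _)
    refine B.dvd_m_of_conn ?_
    rcases adj_G2 F hr hdS with h | h | h | h
    · rw [h]; exact Relation.ReflTransGen.refl
    · exact h.conn.symm
    · omega
    · omega
  simp only [List.mem_cons, List.not_mem_nil, or_false] at ht ht'
  have hF' : (3 : ℤ) ≤ (Nat.card F : ℤ) := by exact_mod_cast hF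
  rcases ht with rfl | rfl <;> rcases ht' with rfl | rfl
  · exact hne rfl
  · refine num_G2 B.A (fun r₀ h => B.single h) hF' (s := 1) (Or.inl rfl) (j := j) ?_ ?_ hm
    · rw [one_mul, ← h3]; exact_mod_cast hj
    · intro r hr
      rw [hn r hr, one_mul, ← h6, Int.natCast_dvd_natCast]
  · refine num_G2 B.A (fun r₀ h => B.single h) hF' (s := -1) (Or.inr rfl) (j := j) ?_ ?_ hm
    · have : (Nat.card F : ℤ) ^ 2 + -1 * (Nat.card F : ℤ) + 1 = (Nat.card F : ℤ) ^ 2 - Nat.card F + 1 := by ring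
      rw [this, ← h6]; exact_mod_cast hj
    · intro r hr
      have : (Nat.card F : ℤ) ^ 2 - -1 * (Nat.card F : ℤ) + 1 = (Nat.card F : ℤ) ^ 2 + Nat.card F + 1 := by ring
      rw [hn r hr, this, ← h3, Int.natCast_dvd_natCast]
  · exact hne rfl

/-- **No `G₂(q)`.** -/
theorem not_G2 {S : Type*} [Group S] (h : Cfsg.Lie.IsoChevG2 S) {p k n m : ℕ} (B : PB S p k n m) : False := by
  obtain ⟨F, _, _, hF, ⟨e⟩⟩ := h
  exact not_G2' F (by rw [Nat.card_eq_fintype_card]; exact hF) (B.congr e)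

/-! ### `F₄(q)` -/

theorem not_F4' (F : Type u) [Field F] [Finite F] {p k n m : ℕ}
    (B : PB ↥(chevF4.group F) p k n m) : False := by
  obtain ⟨t, ht, t', ht', hne, -, ⟨j, hj⟩, hn⟩ := B.torus (q := Nat.card F)
    [(8, (ev 8 (Nat.card F : ℕ)).natAbs), (12, (ev 12 (Nat.card F : ℕ)).natAbs)]
    (by
      intro r hr hd hnc
      rcases adj_F4 F hr hd with h | h | h | h
      · rw [h] at hnc
        exact absurd Relation.ReflTransGen.refl hnc
      · exact absurd h.conn.symm hnc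
      · exact ⟨(8, (ev 8 (Nat.card F : ℕ)).natAbs), by simp, h⟩
      · exact ⟨(12, (ev 12 (Nat.card F : ℕ)).natAbs), by simp, h⟩)
    (by
      intro t ht
      simp only [List.mem_cons, List.not_mem_nil, or_false] at ht
      rcases ht with rfl | rfl
      · exact tor_F4_8 F
      · exact tor_F4_12 F)
  have h8 : (((ev 8 (Nat.card F : ℕ)).natAbs : ℕ) : ℤ) = (Nat.card F : ℤ) ^ 4 + 1 := by
    rw [← ev8, Int.natCast_natAbs, abs_of_pos (ev_pos (by norm_num) _)]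
  have h12 : (((ev 12 (Nat.card F : ℕ)).natAbs : ℕ) : ℤ) = (Nat.card F : ℤ) ^ 4 - (Nat.card F : ℤ) ^ 2 + 1 := by
    rw [← ev12, Int.natCast_natAbs, abs_of_pos (ev_pos (by norm_num) _)]
  simp only [List.mem_cons, List.not_mem_nil, or_false] at ht ht'
  have hF : (2 : ℤ) ≤ (Nat.card F : ℤ) := by exact_mod_cast (Finite.one_lt_card : 1 < Nat.card F)
  have hF4 : (4 : ℤ) ≤ (Nat.card F : ℤ) ^ 2 := by nlinarith
  have e4 : (Nat.card F : ℤ) ^ 4 = ((Nat.card F : ℤ) ^ 2) ^ 2 := by ring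
  rcases ht with rfl | rfl <;> rcases ht' with rfl | rfl
  · exact hne rfl
  · refine num_F4 B.A (q := (Nat.card F : ℤ)) (Or.inl ⟨rfl, rfl⟩) (by rw [e4]; nlinarith) (j := j) ?_ ?_
    · rw [← h8]; exact_mod_cast hj
    · intro r hr
      rw [hn r hr, ← h12, Int.natCast_dvd_natCast]
  · refine num_F4 B.A (q := (Nat.card F : ℤ)) (Or.inr ⟨rfl, rfl⟩) (by rw [e4]; nlinarith) (j := j) ?_ ?_
    · rw [← h12]; exact_mod_cast hj
    · intro r hr
      rw [hn r hr, ← h8, Int.natCast_dvd_natCast]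
  · exact hne rfl

/-- **No `F₄(q)`.** -/
theorem not_F4 {S : Type*} [Group S] (h : Cfsg.Lie.IsoF4 S) {p k n m : ℕ} (B : PB S p k n m) : False := by
  obtain ⟨F, _, _, ⟨e⟩⟩ := h
  exact not_F4' F (B.congr e)

/-! ### `E₈(q)` -/

theorem not_E8' (F : Type u) [Field F] [Finite F] {p k n m : ℕ}
    (B : PB ↥(chevE8.group F) p k n m) : False := by
  have hcard : Nat.card ↥(chevE8.group F) = Nat.card F ^ 120 * (Nat.card F ^ 2 - 1) * (Nat.card F ^ 8 - 1) *
      (Nat.card F ^ 12 - 1) * (Nat.card F ^ 14 - 1) * (Nat.card F ^ 18 - 1) * (Nat.card F ^ 20 - 1) *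
      (Nat.card F ^ 24 - 1) * (Nat.card F ^ 30 - 1) := by
    have := Fintype.ofFinite F
    exact Cfsg.Agent.S1065.result (F := F) (q := Nat.card F) Nat.card_eq_fintype_card.symm
  obtain ⟨t, ht, t', ht', hne, hpt, ⟨j, hj⟩, hn⟩ := B.torus (q := Nat.card F)
    [(15, (ev 15 (Nat.card F : ℕ)).natAbs), (20, (ev 20 (Nat.card F : ℕ)).natAbs),
      (24, (ev 24 (Nat.card F : ℕ)).natAbs), (30, (ev 30 (Nat.card F : ℕ)).natAbs)]
    (by
      intro r hr hd hnc
      rcases adj_E8 F hr hd with h | h | h | h | h | h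
      · rw [h] at hnc
        exact absurd Relation.ReflTransGen.refl hnc
      · exact absurd h.conn.symm hnc
      · exact ⟨(15, (ev 15 (Nat.card F : ℕ)).natAbs), by simp, h⟩
      · exact ⟨(20, (ev 20 (Nat.card F : ℕ)).natAbs), by simp, h⟩
      · exact ⟨(24, (ev 24 (Nat.card F : ℕ)).natAbs), by simp, h⟩
      · exact ⟨(30, (ev 30 (Nat.card F : ℕ)).natAbs), by simp, h⟩)
    (by
      intro t ht
      simp only [List.mem_cons, List.not_mem_nil, or_false] at ht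
      rcases ht with rfl | rfl | rfl | rfl
      · exact tor_E8_15 F
      · exact tor_E8_20 F
      · exact tor_E8_24 F
      · exact tor_E8_30 F)
  have h15 : (((ev 15 (Nat.card F : ℕ)).natAbs : ℕ) : ℤ) = EEightNT.c15 (Nat.card F : ℕ) := by
    rw [Int.natCast_natAbs, abs_of_pos (ev_pos (by norm_num) _), ev15]; rfl
  have h20 : (((ev 20 (Nat.card F : ℕ)).natAbs : ℕ) : ℤ) = EEightNT.c20 (Nat.card F : ℕ) := by
    rw [Int.natCast_natAbs, abs_of_pos (ev_pos (by norm_num) _), ev20]; rfl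
  have h24 : (((ev 24 (Nat.card F : ℕ)).natAbs : ℕ) : ℤ) = EEightNT.c24 (Nat.card F : ℕ) := by
    rw [Int.natCast_natAbs, abs_of_pos (ev_pos (by norm_num) _), ev24]; rfl
  have h30 : (((ev 30 (Nat.card F : ℕ)).natAbs : ℕ) : ℤ) = EEightNT.c30 (Nat.card F : ℕ) := by
    rw [Int.natCast_natAbs, abs_of_pos (ev_pos (by norm_num) _), ev30]; rfl
  have hF : 2 ≤ Nat.card F := Finite.one_lt_card
  have hm : ∀ r : ℕ, r.Prime → r ∣ Nat.card ↥(chevE8.group F) → od (Nat.card F) r ≤ 8 → r ∣ m := by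
    intro r hr hdS hod
    refine B.dvd_m_of_conn ?_
    rcases adj_E8 F hr hdS with h | h | h | h | h | h
    · rw [h]; exact Relation.ReflTransGen.refl
    · exact h.conn.symm
    · omega
    · omega
    · omega
    · omega
  have ht0 : t.1 = 15 ∨ t.1 = 20 ∨ t.1 = 24 ∨ t.1 = 30 := by
    simp only [List.mem_cons, List.not_mem_nil, or_false] at ht
    rcases ht with rfl | rfl | rfl | rfl <;> simp
  obtain ⟨e, c, E⟩ := B.A.exists_ep
  rcases E.p_mod B.A with ⟨rfl, hp4⟩ | ⟨rfl, hp4⟩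
  · obtain ⟨s, f, hs, hf, hsf⟩ : ∃ s f : ℕ, s.Prime ∧ f ≠ 0 ∧ Nat.card F = s ^ f := by
      have := Fintype.ofFinite F
      obtain ⟨s, hs⟩ := CharP.exists F
      obtain ⟨g, hsp, hsg⟩ := FiniteField.card F s
      exact ⟨s, g, hsp, g.ne_zero, by rw [Nat.card_eq_fintype_card, hsg]⟩
    have hB : ∀ r : ℕ, r.Prime → (r : ℤ) ∣ ((Nat.card F : ℕ) : ℤ) * (((Nat.card F : ℕ) : ℤ) ^ 4 - 1) *
        (((Nat.card F : ℕ) : ℤ) ^ 4 + 1) → r ∣ p ^ k - 1 := by
      intro r hr hd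
      have hd' : (r : ℤ) ∣ ((Nat.card F : ℕ) : ℤ) * (((Nat.card F : ℕ) : ℤ) ^ 8 - 1) := by
        have : ((Nat.card F : ℕ) : ℤ) * (((Nat.card F : ℕ) : ℤ) ^ 8 - 1) = ((Nat.card F : ℕ) : ℤ) *
          (((Nat.card F : ℕ) : ℤ) ^ 4 - 1) * (((Nat.card F : ℕ) : ℤ) ^ 4 + 1) := by ring
        rw [this]; exact hd
      have h1 : 1 ≤ Nat.card F ^ 8 := Nat.one_le_pow _ _ (by omega)
      have hpr : Prime (r : ℤ) := Nat.prime_iff_prime_int.1 hr
      have hod : od (Nat.card F) r ≤ 8 := by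
        rcases hpr.dvd_or_dvd hd' with h | h
        · rw [od_zero hr (by exact_mod_cast h)]; omega
        · exact Nat.le_of_dvd (by norm_num) (od_dvd h)
      have hdS : r ∣ Nat.card ↥(chevE8.group F) := by
        rw [hcard]
        have h2 : r ∣ Nat.card F * (Nat.card F ^ 8 - 1) := by
          have : ((Nat.card F * (Nat.card F ^ 8 - 1) : ℕ) : ℤ) = (Nat.card F : ℤ) * ((Nat.card F : ℤ) ^ 8 - 1) := by
            push_cast [Nat.cast_sub h1]; ring
          rw [← this] at hd'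
          exact_mod_cast hd'
        rcases hr.dvd_mul.1 h2 with h3 | h3
        · refine (h3.trans (dvd_pow_self _ (by norm_num : 120 ≠ 0))).trans ?_
          simp only [mul_assoc]
          exact dvd_mul_right _ _
        · refine h3.trans ?_
          exact ⟨Nat.card F ^ 120 * (Nat.card F ^ 2 - 1) * (Nat.card F ^ 12 - 1) * (Nat.card F ^ 14 - 1) *
            (Nat.card F ^ 18 - 1) * (Nat.card F ^ 20 - 1) * (Nat.card F ^ 24 - 1) * (Nat.card F ^ 30 - 1), by ring⟩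
      have h4 := E.two_m (hm r hr hdS hod)
      have h5 : 1 ≤ p ^ k := Nat.one_le_pow _ _ B.A.hp.pos
      have h6 : ((p ^ k - 1 : ℕ) : ℤ) = (p : ℤ) ^ k - 1 := by push_cast [Nat.cast_sub h5]; rfl
      rw [← h6] at h4
      exact_mod_cast h4
    have hrn : ∀ r : ℕ, r.Prime → r ≠ 2 → r ∣ p ^ k + 1 → r ∣ n := by
      intro r hr hr2 hrk
      have h1 : (r : ℤ) ∣ 2 * (n : ℤ) := by rw [E.hn]; exact_mod_cast hrk
      have h2 : r ∣ 2 * n := by exact_mod_cast h1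
      exact (hr.dvd_mul.1 h2).resolve_left fun h => hr2 ((Nat.prime_dvd_prime_iff_eq hr Nat.prime_two).1 h)
    have hj' : (t.2 : ℤ) = (p : ℤ) ^ j := by exact_mod_cast hj
    have hv : ∀ r : ℕ, r.Prime → r ≠ 2 → r ∣ p ^ k + 1 → (r : ℤ) ∣ (t'.2 : ℤ) := fun r hr hr2 hrk =>
      Int.natCast_dvd_natCast.2 ((hn r hr).1 (hrn r hr hr2 hrk))
    refine EEightNT.main (x := ((Nat.card F : ℕ) : ℤ)) hs hf (by rw [Int.natAbs_natCast]; exact hsf) B.A.hp hp4
      B.A.ko hB (u := t.2) (v := t'.2) ?_ hj' hv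
    simp only [List.mem_cons, List.not_mem_nil, or_false] at ht ht'
    rcases ht with rfl | rfl | rfl | rfl <;> rcases ht' with rfl | rfl | rfl | rfl <;>
      first
      | exact absurd rfl hne
      | simp only [h15, h20, h24, h30, true_and, true_or, or_true]
  · -- `e = -1`
    have hd := od_dvd_sub B.A.hp (by omega) hpt
    have hp2 := B.A.hp.two_le
    have hc2 : 2 * c = p - 1 := by have := E.hc; omega
    have key : ∀ r : ℕ, r.Prime → r ≤ 5 → r ∣ t.1 → r ≠ 2 → r ∣ c → False := by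
      intro r hr hr5 hrt hr2 hrc
      have hrn := hrc.trans E.cn
      refine B.A.not_m hr hrn (hm r hr (B.gn r hr hrn) ?_)
      rcases Nat.eq_zero_or_pos (od (Nat.card F) r) with h0 | h0
      · omega
      · have := od_facts hr h0.ne' rfl
        omega
    have h35 : 3 ∣ t.1 ∨ 5 ∣ t.1 := by omega
    rcases h35 with h | h
    · refine key 3 Nat.prime_three (by norm_num) h (by norm_num) ?_
      have h1 : 3 ∣ 2 * c := by rw [hc2]; exact h.trans hd
      exact (Nat.Coprime.dvd_of_dvd_mul_left (by norm_num) h1)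
    · refine key 5 (by norm_num) (by norm_num) h (by norm_num) ?_
      have h1 : 5 ∣ 2 * c := by rw [hc2]; exact h.trans hd
      exact (Nat.Coprime.dvd_of_dvd_mul_left (by norm_num) h1)

/-- **No `E₈(q)`.** -/
theorem not_E8 {S : Type*} [Group S] (h : Cfsg.Lie.IsoE8 S) {p k n m : ℕ} (B : PB S p k n m) : False := by
  obtain ⟨F, _, _, ⟨e⟩⟩ := h
  exact not_E8' F (B.congr e)

end Cfsg.Agent.H824.PG
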