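import Cfsg.Agent.H824.PG.Def
import Cfsg.Agent.S0058
import Cfsg.Agent.H375.Reduce

/-!
# The kernel is trivial
-/

set_option autoImplicit false

namespace Cfsg.Agent.H824.PG

open Subgroup

/-- **Coprime action of a noncyclic `p`-group.** -/
theorem eq_bot_of_cl {G : Type*} [Group G] [Finite G] {p : ℕ} (hp : p.Prime)
    (hcl : ∀ g : G, ∀ t : ℕ, t.Prime → p ∣ orderOf g → t ∣ orderOf g → t = p)
    (K : Subgroup G) [K.Normal] (hpK : ¬ p ∣ Nat.card K)
    {U : Type*} [CommGroup U] [Finite U] (hU : IsPGroup p U) (hUc : ¬ IsCyclic U) (f : U →* G ⧸ K)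
    (hf : Function.Injective f) : K = ⊥ := by
  classical
  by_contra hK
  have hfp : Fact p.Prime := ⟨hp⟩
  set π := QuotientGroup.mk' K with hπ
  have hπs : Function.Surjective π := QuotientGroup.mk'_surjective K
  set H := f.range.comap π with hH
  have hKH : K ≤ H := by
    intro x hx
    rw [hH, Subgroup.mem_comap]
    have : π x = 1 := (QuotientGroup.eq_one_iff x).2 hx
    rw [this]
    exact one_mem _
  set K' := K.subgroupOf H with hK'
  have hcardU : Nat.card f.range = Nat.card U := (Nat.card_congr (MonoidHom.ofInjective hf).toEquiv).symm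
  have hindex : K'.index = Nat.card U := by
    have h1 : K.relIndex H = Nat.card (H.map π) := by
      have := Subgroup.relIndex_ker H π
      rwa [QuotientGroup.ker_mk'] at this
    rw [hH, Subgroup.map_comap_eq_self_of_surjective hπs, hcardU] at h1
    exact h1
  have hcardK' : Nat.card K' = Nat.card K := Nat.card_congr (Subgroup.subgroupOfEquivOfLe hKH).toEquiv
  obtain ⟨i, hi⟩ := IsPGroup.iff_card.1 hU
  have hcop : Nat.Coprime (Nat.card K) (Nat.card U) := by
    rw [hi]
    exact Nat.Coprime.pow_right i ((Nat.Prime.coprime_iff_not_dvd hp).2 hpK).symm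
  obtain ⟨P, hP⟩ := Subgroup.exists_right_complement'_of_coprime (N := K') (by rw [hcardK', hindex]; exact hcop)
  have hcardP : Nat.card P = Nat.card U := by
    rw [← hindex]
    exact hP.symm.index_eq_card.symm
  -- the embedding of `P`
  obtain ⟨φ, hφ⟩ : ∃ φ : P →* G ⧸ K, ∀ x : P, φ x = π ((x : H) : G) :=
    ⟨(π.comp H.subtype).comp P.subtype, fun x => rfl⟩
  have hφi : Function.Injective φ := by
    rw [injective_iff_map_eq_one]
    intro x hx
    rw [hφ] at hx
    have h1 : ((x : H) : G) ∈ K := (QuotientGroup.eq_one_iff _).1 hx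
    have h2 : (x : H) ∈ K' ⊓ P := ⟨h1, x.2⟩
    rw [hP.disjoint.eq_bot, Subgroup.mem_bot] at h2
    exact Subtype.ext h2
  have hφr : φ.range ≤ f.range := by
    rintro _ ⟨x, rfl⟩
    rw [hφ]
    exact (x : H).2
  have hφr' : φ.range = f.range := by
    refine Subgroup.eq_of_le_of_card_ge hφr ?_
    rw [hcardU, ← Nat.card_congr (MonoidHom.ofInjective hφi).toEquiv, hcardP]
  have e : P ≃* U := ((MonoidHom.ofInjective hφi).trans (MulEquiv.subgroupCongr hφr')).trans
    (MonoidHom.ofInjective hf).symm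
  set Q := P.map H.subtype with hQ
  have eQ : P ≃* Q := Subgroup.equivMapOfInjective P H.subtype H.subtype_injective
  have eU : Q ≃* U := eQ.symm.trans e
  have hQc : IsMulCommutative Q := ⟨⟨fun a b => eU.injective (by rw [map_mul, map_mul, mul_comm])⟩⟩
  have hQn : ¬ IsCyclic Q := fun h => hUc (isCyclic_of_surjective eU.toMonoidHom eU.surjective)
  have hsup := Cfsg.Agent.S0058.result Q K hQn (by
    rw [Subgroup.normalizer_eq_top K]; exact le_top) (by
    rw [Nat.card_congr eU.toEquiv]; exact hcop.symm)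
  -- a nontrivial fixed point
  obtain ⟨a, haQ, ha1, hne⟩ : ∃ a : G, a ∈ Q ∧ a ≠ 1 ∧ K ⊓ Subgroup.centralizer {a} ≠ ⊥ := by
    by_contra hcon
    push Not at hcon
    apply hK
    rw [← hsup, eq_bot_iff]
    refine iSup₂_le fun a ha => ?_
    rw [hcon a ha.1 ha.2]
  obtain ⟨x, hx1⟩ := (Subgroup.ne_bot_iff_exists_ne_one).1 hne
  have hxK : (x : G) ∈ K := x.2.1
  have hxa : Commute a (x : G) := (Subgroup.mem_centralizer_singleton_iff.1 x.2.2).symm
  have hx0 : orderOf (x : G) ≠ 1 := by
    rw [Ne, orderOf_eq_one_iff]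
    exact fun h => hx1 (Subtype.ext h)
  obtain ⟨t, ht, htx⟩ := Nat.exists_prime_and_dvd hx0
  have htK : t ∣ Nat.card K := by
    have h1 := orderOf_dvd_natCard (⟨(x : G), hxK⟩ : K)
    rw [Subgroup.orderOf_mk] at h1
    exact htx.trans h1
  have htp : t ≠ p := by rintro rfl; exact hpK htK
  have hpa : p ∣ orderOf a := by
    obtain ⟨j, hj⟩ := (hU.of_equiv eU.symm) ⟨a, haQ⟩
    have h1 : a ^ p ^ j = 1 := congrArg Subtype.val hj
    obtain ⟨l, -, hl⟩ := (Nat.dvd_prime_pow hp).1 (orderOf_dvd_of_pow_eq_one h1)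
    rcases Nat.eq_zero_or_pos l with h0 | h0
    · rw [h0, pow_zero, orderOf_eq_one_iff] at hl
      exact absurd hl ha1
    · rw [hl]; exact dvd_pow_self p h0.ne'
  obtain ⟨g, hg⟩ := Cfsg.Agent.H375.Reduce.exists_orderOf_mul
    ((Nat.coprime_primes hp ht).2 htp.symm) hxa hpa htx
  exact htp (hcl g t ht (by rw [hg]; exact dvd_mul_right _ _) (by rw [hg]; exact dvd_mul_left _ _))

end Cfsg.Agent.H824.PG
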