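import Cfsg.Agent.H824.PG.Alt
import Cfsg.Agent.H375.LThree.Spec
import Cfsg.Agent.H371.Core.Lin

/-!
# `PSL_n(q)` (prime graph version)
-/

set_option autoImplicit false

namespace Cfsg.Agent.H824.PG

open Cfsg.Agent.H94 Cfsg.Agent.H371 Cfsg.Agent.H371.Core

/-! ### Small exponential equations -/

theorem three_pow_mod8 (i : ℕ) : (3 ^ i % 8 = 1 ∧ i % 2 = 0) ∨ (3 ^ i % 8 = 3 ∧ i % 2 = 1) := by
  induction i with
  | zero => left; decide
  | succ i ih => rw [pow_succ]; omega

theorem two_pow_mod8 {x : ℕ} (hx : 3 ≤ x) : 2 ^ x % 8 = 0 := by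
  obtain ⟨y, rfl⟩ : ∃ y, x = y + 3 := ⟨x - 3, by omega⟩
  rw [pow_add]
  omega

theorem pow_add_one {i x : ℕ} (h : 3 ^ i + 1 = 2 ^ x) : i ≤ 1 := by
  rcases Nat.lt_or_ge x 3 with h3 | h3
  · by_contra hc
    have h1 : 3 ^ 2 ≤ 3 ^ i := Nat.pow_le_pow_right (by norm_num) (by omega)
    have h2 : 2 ^ x ≤ 2 ^ 2 := Nat.pow_le_pow_right (by norm_num) (by omega)
    omega
  · have := two_pow_mod8 h3
    have := three_pow_mod8 i
    omega

theorem pow_sub_one {i x : ℕ} (h : 3 ^ i = 2 ^ x + 1) : i ≤ 2 := by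
  rcases Nat.lt_or_ge x 3 with h3 | h3
  · by_contra hc
    have h1 : 3 ^ 3 ≤ 3 ^ i := Nat.pow_le_pow_right (by norm_num) (by omega)
    have h2 : 2 ^ x ≤ 2 ^ 2 := Nat.pow_le_pow_right (by norm_num) (by omega)
    omega
  · have h8 := two_pow_mod8 h3
    have h9 := three_pow_mod8 i
    obtain ⟨l, hl⟩ : ∃ l, i = 2 * l := ⟨i / 2, by omega⟩
    subst hl
    have h1 : (3 ^ l + 1) ∣ 2 ^ x := by
      have h5 : 3 ^ (2 * l) = 3 ^ l * 3 ^ l := by rw [two_mul, pow_add]
      have h6 : 1 ≤ 3 ^ l := Nat.one_le_pow _ _ (by norm_num)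
      refine ⟨3 ^ l - 1, ?_⟩
      obtain ⟨z, hz⟩ : ∃ z, 3 ^ l = z + 1 := ⟨3 ^ l - 1, by omega⟩
      rw [h5, hz] at h
      rw [hz, Nat.add_sub_cancel]
      nlinarith
    obtain ⟨y, -, hy⟩ := (Nat.dvd_prime_pow Nat.prime_two).1 h1
    have := pow_add_one hy
    omega

/-- `PSL_2(Q)`, `Q ≥ 8` even -/
theorem num_psl2 {p k n m Q s : ℕ} (A : Ak p k n m) (hQ : Q = 2 ^ s) (hs : 3 ≤ s)
    (hsg : ∀ r₀ : ℕ, (∀ r : ℕ, r.Prime → r ∣ n → r = r₀) → p = 3)
    (h : (∃ j, Q + 1 = p ^ j ∧ (∀ r : ℕ, r.Prime → (r ∣ n ↔ r ∣ Q - 1))) ∨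
      (∃ j, Q = p ^ j + 1 ∧ (∀ r : ℕ, r.Prime → (r ∣ n ↔ r ∣ Q + 1)))) : False := by
  obtain ⟨e, c, E⟩ := A.exists_ep
  have hQ8 : 8 ≤ Q := by
    rw [hQ]
    calc 8 = 2 ^ 3 := by norm_num
      _ ≤ 2 ^ s := Nat.pow_le_pow_right (by norm_num) hs
  have hQm : Q % 8 = 0 := by rw [hQ]; exact two_pow_mod8 hs
  have hp3 := A.p3
  have hpm := E.p_mod A
  have hec := E.hc
  have hc0 : 0 < c := by have := E.c_odd A; omega
  -- residues
  have hdn : ∀ r : ℕ, r.Prime → r ∣ n → (r : ℤ) ∣ (p : ℤ) ^ k + e := by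
    intro r _ hr
    rw [← E.hn]
    exact dvd_mul_of_dvd_right (Int.natCast_dvd_natCast.2 hr) _
  have h7 : p = 3 → ¬ 7 ∣ n := by
    rintro rfl h
    have h1 := hdn 7 (by norm_num) h
    have he : e = -1 := by omega
    rw [he] at h1
    obtain ⟨i, hi⟩ := A.ko
    have h2 : ∀ i : ℕ, (3 ^ (2 * i + 1)) % 7 ≠ 1 := by
      intro i
      have : ∀ i : ℕ, 3 ^ (2 * i + 1) % 7 = 3 ∨ 3 ^ (2 * i + 1) % 7 = 6 ∨ 3 ^ (2 * i + 1) % 7 = 5 := by
        intro i
        induction i with
        | zero => left; rfl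
        | succ i ih =>
          have e1 : 3 ^ (2 * (i + 1) + 1) = 3 ^ (2 * i + 1) * 9 := by rw [mul_add, add_right_comm, pow_add]; norm_num
          rw [e1]
          omega
      have := this i
      omega
    have h3 := h2 i
    rw [← hi] at h3
    have h4 : ((3 ^ k : ℕ) : ℤ) % 7 = 1 := by
      push_cast
      omega
    omega
  have h5 : p = 17 → ¬ 5 ∣ n := by
    rintro rfl h
    have h1 := hdn 5 (by norm_num) h
    have he : e = 1 := by omega
    rw [he] at h1
    obtain ⟨i, hi⟩ := A.ko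
    have : ∀ i : ℕ, 17 ^ (2 * i + 1) % 5 = 2 ∨ 17 ^ (2 * i + 1) % 5 = 3 := by
      intro i
      induction i with
      | zero => left; rfl
      | succ i ih =>
        have e1 : 17 ^ (2 * (i + 1) + 1) = 17 ^ (2 * i + 1) * 289 := by
          rw [mul_add, add_right_comm, pow_add]; norm_num
        rw [e1]
        omega
    have h3 := this i
    rw [← hi] at h3
    have h4 : (((17 ^ k : ℕ) : ℤ) + 1) % 5 = 0 := by
      push_cast
      omega
    omega
  -- `c` is a power of `3`
  have key : ∀ r : ℕ, r.Prime → r ∣ c → r = 3 := by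
    intro r hr hrc
    have hrn := hrc.trans E.cn
    have hr2 : r ≠ 2 := by
      rintro rfl
      exact A.not_two_dvd_n hrn
    have hpe : (r : ℤ) ∣ (p : ℤ) - (-e) := by
      rw [sub_neg_eq_add, ← hec]
      exact dvd_mul_of_dvd_right (Int.natCast_dvd_natCast.2 hrc) _
    have hpj : ∀ j : ℕ, (r : ℤ) ∣ (p : ℤ) ^ j - 1 ∨ (r : ℤ) ∣ (p : ℤ) ^ j + 1 := by
      intro j
      have h1 : (r : ℤ) ∣ (p : ℤ) ^ j - (-e) ^ j := hpe.trans (sub_dvd_pow_sub_pow _ _ j)
      have h2 : (-e) ^ j = 1 ∨ (-e) ^ j = -1 := by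
        rcases E.he with h | h <;> rw [h]
        · exact neg_one_pow_eq_or ℤ j
        · left; simp
      rcases h2 with h2 | h2
      · left; rwa [h2] at h1
      · right; rwa [h2, sub_neg_eq_add] at h1
    have h3 : ∀ z : ℤ, (z = 1 ∨ z = 2 ∨ z = 3) → (r : ℤ) ∣ z → r = 3 := by
      intro z hz hd
      have : r ∣ z.natAbs := Int.natCast_dvd.1 hd
      rcases hz with rfl | rfl | rfl
      · exact absurd (Nat.dvd_one.1 this) hr.one_lt.ne'
      · exact absurd ((Nat.prime_dvd_prime_iff_eq hr Nat.prime_two).1 this) hr2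
      · exact (Nat.prime_dvd_prime_iff_eq hr Nat.prime_three).1 this
    rcases h with ⟨j, hj, hr'⟩ | ⟨j, hj, hr'⟩
    · have h4 : (r : ℤ) ∣ (Q : ℤ) - 1 := by
        have := Int.natCast_dvd_natCast.2 ((hr' r hr).1 hrn)
        rwa [Nat.cast_sub (by omega), Nat.cast_one] at this
      have h5 : (p : ℤ) ^ j = Q + 1 := by exact_mod_cast hj.symm
      rcases hpj j with h6 | h6 <;> rw [h5] at h6
      · refine h3 1 (Or.inl rfl) ?_
        have := dvd_sub h6 h4
        ring_nf at this
        exact this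
      · refine h3 3 (by norm_num) ?_
        have := dvd_sub h6 h4
        ring_nf at this
        exact this
    · have h4 : (r : ℤ) ∣ (Q : ℤ) + 1 := by
        have := Int.natCast_dvd_natCast.2 ((hr' r hr).1 hrn)
        exact_mod_cast this
      have h5 : (p : ℤ) ^ j = Q - 1 := by
        have : ((Q : ℕ) : ℤ) = ((p ^ j + 1 : ℕ) : ℤ) := by rw [hj]
        push_cast at this
        linarith
      rcases hpj j with h6 | h6 <;> rw [h5] at h6
      · refine h3 3 (by norm_num) ?_
        have := dvd_sub h4 h6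
        ring_nf at this
        exact this
      · refine h3 1 (by norm_num) ?_
        have := dvd_sub h4 h6
        ring_nf at this
        exact this
  obtain ⟨i, hi⟩ : ∃ i, c = 3 ^ i := ⟨_, Nat.eq_prime_pow_of_unique_prime_dvd hc0.ne' fun {d} hd hdc => key d hd hdc⟩
  rcases h with ⟨j, hj, hr'⟩ | ⟨j, hj, hr'⟩
  · -- `p ^ j = Q + 1`
    have hp1 : p - 1 ∣ 2 ^ s := by
      have := Nat.sub_dvd_pow_sub_pow p 1 j
      rw [one_pow, ← hj, Nat.add_sub_cancel, hQ] at this
      exact this
    obtain ⟨x, -, hx⟩ := (Nat.dvd_prime_pow Nat.prime_two).1 hp1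
    have hx1 : 1 ≤ x := by
      by_contra hc
      have : x = 0 := by omega
      rw [this, pow_zero] at hx
      omega
    have hxx : 2 ^ x = 2 * 2 ^ (x - 1) := by
      rw [← pow_succ']; congr 1; omega
    rcases E.he with he | he
    · -- `e = 1`
      have h1 : 3 ^ i = 2 ^ (x - 1) + 1 := by
        rw [← hi]
        omega
      have h2 := pow_sub_one h1
      have h3 : i = 1 ∨ i = 2 := by
        have : i ≠ 0 := by
          rintro rfl
          have : 0 < 2 ^ (x - 1) := Nat.pow_pos (by norm_num)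
          rw [pow_zero] at h1
          omega
        omega
      have hj1 : j % 2 = 1 := by
        by_contra hc
        obtain ⟨l, hl⟩ : ∃ l, j = 2 * l := ⟨j / 2, by omega⟩
        have h4 : p ^ j % 3 = 1 := by
          rw [hl, pow_mul, Nat.pow_mod]
          have : p ^ 2 % 3 = 1 := by
            rcases h3 with h3 | h3 <;> rw [h3] at hi
            · have : p = 5 := by omega
              rw [this]
              norm_num
            · have : p = 17 := by omega
              rw [this]
              norm_num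
          rw [this, one_pow]
          norm_num
        have h5 : Q % 3 = 0 := by omega
        have h6 : 3 ∣ 2 ^ s := by rw [← hQ]; exact Nat.dvd_of_mod_eq_zero h5
        have := Nat.prime_three.dvd_of_dvd_pow h6
        omega
      obtain ⟨l, hl⟩ : ∃ l, j = 2 * l + 1 := ⟨j / 2, by omega⟩
      rcases h3 with h3 | h3 <;> rw [h3] at hi
      · have h5' : p = 5 := by omega
        have : ∀ l : ℕ, 5 ^ (2 * l + 1) % 8 = 5 := by
          intro l
          rw [pow_succ, pow_mul, Nat.mul_mod, Nat.pow_mod]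
          norm_num
        have := this l
        rw [← hl, ← h5'] at this
        omega
      · have h17 : p = 17 := by omega
        have : ∀ l : ℕ, 17 ^ (2 * l + 1) % 32 = 17 := by
          intro l
          rw [pow_succ, pow_mul, Nat.mul_mod, Nat.pow_mod]
          norm_num
        have h18 := this l
        rw [← hl, ← h17] at h18
        have h19 : s = 4 := by
          by_contra hc
          rcases Nat.lt_or_ge s 5 with h | h
          · have : s = 3 := by omega
            rw [this] at hQ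
            norm_num at hQ
            omega
          · obtain ⟨y, rfl⟩ : ∃ y, s = y + 5 := ⟨s - 5, by omega⟩
            rw [pow_add] at hQ
            omega
        rw [h19] at hQ
        norm_num at hQ
        exact h5 h17 ((hr' 5 (by norm_num)).2 (by rw [hQ]; norm_num))
    · -- `e = -1`
      have h1 : 2 * 3 ^ i = p - 1 := by rw [← hi]; omega
      rw [hx, hxx] at h1
      have h2 : 3 ^ i = 2 ^ (x - 1) := by omega
      have hi0 : i = 0 := by
        by_contra hc
        have h3 : 3 ∣ 2 ^ (x - 1) := by rw [← h2]; exact dvd_pow_self 3 hc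
        have := Nat.prime_three.dvd_of_dvd_pow h3
        omega
      rw [hi0, pow_zero] at hi
      have h3 : p = 3 := E.p_eq_three A hi
      rw [h3, hQ] at hj
      have h4 := pow_sub_one hj.symm
      have hj2 : j = 2 := by
        have : 8 ≤ 2 ^ s := by rw [← hQ]; exact hQ8
        interval_cases j <;> omega
      rw [hj2, ← hQ] at hj
      have hQ' : Q = 8 := by omega
      exact h7 h3 ((hr' 7 (by norm_num)).2 (by rw [hQ']))
  · -- `p ^ j = Q - 1`
    have hjo : Odd j := by
      by_contra hc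
      rw [Nat.not_odd_iff_even] at hc
      obtain ⟨l, hl⟩ := hc
      have h1 : p ^ j % 4 = 1 := by
        rw [hl, ← two_mul, pow_mul, Nat.pow_mod]
        have : p ^ 2 % 4 = 1 := by
          rw [Nat.pow_mod]
          rcases hpm with ⟨-, h⟩ | ⟨-, h⟩ <;> rw [h]
        rw [this, one_pow]
        norm_num
      omega
    have hp1 : p + 1 ∣ 2 ^ s := by
      have := Odd.nat_add_dvd_pow_add_pow p 1 hjo
      rw [one_pow, ← hj, hQ] at this
      exact this
    obtain ⟨x, -, hx⟩ := (Nat.dvd_prime_pow Nat.prime_two).1 hp1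
    have hx1 : 1 ≤ x := by
      by_contra hc
      have : x = 0 := by omega
      rw [this, pow_zero] at hx
      omega
    have hxx : 2 ^ x = 2 * 2 ^ (x - 1) := by
      rw [← pow_succ']; congr 1; omega
    rcases E.he with he | he
    · have h1 : 2 * 3 ^ i = p + 1 := by rw [← hi]; omega
      rw [hx, hxx] at h1
      have h2 : 3 ^ i = 2 ^ (x - 1) := by omega
      have hi0 : i = 0 := by
        by_contra hc
        have h3 : 3 ∣ 2 ^ (x - 1) := by rw [← h2]; exact dvd_pow_self 3 hc
        have := Nat.prime_three.dvd_of_dvd_pow h3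
        omega
      rw [hi0, pow_zero] at hi
      omega
    · have h1 : 3 ^ i + 1 = 2 ^ (x - 1) := by
        rw [← hi]
        omega
      have h2 := pow_add_one h1
      rcases (by omega : i = 0 ∨ i = 1) with h3 | h3 <;> rw [h3] at hi
      · have hp : p = 3 := by omega
        rw [hp] at hj
        have := three_pow_mod8 j
        omega
      · have hp : p = 7 := by omega
        rw [hp] at hj
        obtain ⟨l, hl⟩ := hjo
        have : ∀ l : ℕ, 7 ^ (2 * l + 1) % 16 = 7 := by
          intro l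
          rw [pow_succ, pow_mul, Nat.mul_mod, Nat.pow_mod]
          norm_num
        have h8 := this l
        rw [← hl] at h8
        have hs3 : s = 3 := by
          by_contra hc
          obtain ⟨y, rfl⟩ : ∃ y, s = y + 4 := ⟨s - 4, by omega⟩
          rw [pow_add] at hQ
          omega
        rw [hs3] at hQ
        norm_num at hQ
        have := hsg 3 fun r hr hrn => by
          have h9 := (hr' r hr).1 hrn
          rw [hQ] at h9
          have : r ∣ 3 ^ 2 := h9
          exact (Nat.prime_dvd_prime_iff_eq hr Nat.prime_three).1 (hr.dvd_of_dvd_pow this)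
        omega

/-- `PSL_2(Q)`, `Q ≥ 8` even -/
theorem not_psl_two_even {F : Type*} [Field F] [Fintype F] (hF : 8 ≤ Fintype.card F) (he : Even (Fintype.card F))
    {p k n m : ℕ} (B : PB (Matrix.ProjectiveSpecialLinearGroup (Fin 2) F) p k n m) : False := by
  obtain ⟨s, hs⟩ := CharP.exists F
  obtain ⟨g, hsp, hsg⟩ := FiniteField.card F s
  have hs2 : s = 2 := by
    have heven : Even (s ^ (g : ℕ)) := by rw [← hsg]; exact he
    exact (hsp.even_iff).mp (Nat.even_pow.mp heven).1
  subst hs2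
  have := Fact.mk Nat.prime_two
  have hrange := H390.PslSpec.range_orderOf (F := F) (p := 2) (by omega)
  have hdd : H390.PslSpec.dd (Fintype.card F) = 1 := H390.PslSpec.dd_even he (by omega)
  set q := Fintype.card F with hqdef
  have hcases : ∀ g : Matrix.ProjectiveSpecialLinearGroup (Fin 2) F, orderOf g ∣ 2 ∨ orderOf g ∣ q - 1 ∨
      orderOf g ∣ q + 1 := by
    intro g
    have h1 : orderOf g ∈ Set.range (orderOf : Matrix.ProjectiveSpecialLinearGroup (Fin 2) F → ℕ) := ⟨g, rfl⟩
    rw [hrange] at h1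
    simpa [H390.PslSpec.specSet, hdd] using h1
  have hex : ∀ k : ℕ, (k ∣ 2 ∨ k ∣ q - 1 ∨ k ∣ q + 1) →
      ∃ g : Matrix.ProjectiveSpecialLinearGroup (Fin 2) F, orderOf g = k := by
    intro k hk
    have h1 : k ∈ Set.range (orderOf : Matrix.ProjectiveSpecialLinearGroup (Fin 2) F → ℕ) := by
      rw [hrange]
      simpa [H390.PslSpec.specSet, hdd] using hk
    obtain ⟨g, hg⟩ := h1
    exact ⟨g, hg⟩
  have hpr : ∀ r : ℕ, r.Prime → r ≠ 2 → r ∣ Nat.card (Matrix.ProjectiveSpecialLinearGroup (Fin 2) F) →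
      r ∣ q - 1 ∨ r ∣ q + 1 := by
    intro r hr hr2 hd
    have := Fact.mk hr
    obtain ⟨g, hg⟩ := exists_prime_orderOf_dvd_card' r hd
    rcases hcases g with h | h | h
    · rw [hg] at h
      exact absurd ((Nat.prime_dvd_prime_iff_eq hr Nat.prime_two).1 h) hr2
    · rw [hg] at h; exact Or.inl h
    · rw [hg] at h; exact Or.inr h
  obtain ⟨r, hr, hrn⟩ := B.exists_prime
  have main : ∀ T T' : ℕ, T ≠ 0 → T' ≠ 0 → (∃ g : Matrix.ProjectiveSpecialLinearGroup (Fin 2) F, orderOf g = T) →
      (∃ g : Matrix.ProjectiveSpecialLinearGroup (Fin 2) F, orderOf g = T') →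
      (∀ r : ℕ, r.Prime → r ≠ 2 → r ∣ Nat.card (Matrix.ProjectiveSpecialLinearGroup (Fin 2) F) →
        r ∣ T ∨ r ∣ T') → p ∣ T → ∃ j, T = p ^ j ∧ ∀ r : ℕ, r.Prime → (r ∣ n ↔ r ∣ T') := by
    intro T T' hT0 hT0' hT hT' hc hp
    obtain ⟨j, hj⟩ := B.eq_pow hT0 hT hp
    have h1 : ∀ r : ℕ, r.Prime → r ∣ n → r ∣ T' := by
      intro r hr hrn
      rcases hc r hr (B.ne_two hrn) (B.gn r hr hrn) with h | h
      · rw [hj] at h
        have := (Nat.prime_dvd_prime_iff_eq hr B.A.hp).1 (hr.dvd_of_dvd_pow h)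
        subst this
        exact absurd hrn B.A.not_p_dvd_n
      · exact h
    exact ⟨j, hj, fun r' hr' => ⟨h1 r' hr', fun h => B.dvd_n hT' hr hrn (h1 r hr hrn) hr' h⟩⟩
  have e1 := hex (q - 1) (Or.inr (Or.inl dvd_rfl))
  have e2 := hex (q + 1) (Or.inr (Or.inr dvd_rfl))
  have hsg' : q = 2 ^ (g : ℕ) := hsg
  have hg3 : 3 ≤ (g : ℕ) := by
    by_contra hc
    have : 2 ^ (g : ℕ) ≤ 2 ^ 2 := Nat.pow_le_pow_right (by norm_num) (by omega)
    omega
  refine num_psl2 B.A hsg' hg3 (fun r₀ h => B.single h) ?_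
  rcases hpr p B.A.hp B.A.hp2 B.gp with h | h
  · obtain ⟨j, hj, h1⟩ := main (q - 1) (q + 1) (by omega) (by omega) e1 e2 hpr h
    exact Or.inr ⟨j, by omega, h1⟩
  · obtain ⟨j, hj, h1⟩ := main (q + 1) (q - 1) (by omega) (by omega) e2 e1
      (fun r hr hr2 hd => (hpr r hr hr2 hd).symm) h
    exact Or.inl ⟨j, hj, h1⟩

/-- `PSL_3(4)` -/
theorem not_psl_three_four {F : Type*} [Field F] [Fintype F] (hF : Fintype.card F = 4)
    {p k n m : ℕ} (B : PB (Matrix.ProjectiveSpecialLinearGroup (Fin 3) F) p k n m) : False := by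
  have hN : Nat.card (Matrix.ProjectiveSpecialLinearGroup (Fin 3) F) = 20160 := by
    have h := Cfsg.Agent.S0243.result (F := F) hF 3 (by norm_num)
    rw [Fin.prod_univ_three] at h
    norm_num at h
    omega
  have : CharP F 2 := by
    obtain ⟨s, hs⟩ := CharP.exists F
    obtain ⟨g, hsp, hsg⟩ := FiniteField.card F s
    have heven : Even (s ^ (g : ℕ)) := by rw [← hsg, hF]; decide
    have := (hsp.even_iff).mp (Nat.even_pow.mp heven).1
    rwa [this] at hs
  have hpr : ∀ r : ℕ, r.Prime → r ≠ 2 → r ∣ Nat.card (Matrix.ProjectiveSpecialLinearGroup (Fin 3) F) →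
      r = 3 ∨ r = 5 ∨ r = 7 := by
    intro r hr hr2 hd
    have h1 : r ∣ 2 ^ 6 * 3 ^ 2 * 5 * 7 := by
      rw [hN] at hd
      exact hd
    rcases (hr.dvd_mul).1 h1 with h1 | h1
    · rcases (hr.dvd_mul).1 h1 with h1 | h1
      · rcases (hr.dvd_mul).1 h1 with h1 | h1
        · exact absurd ((Nat.prime_dvd_prime_iff_eq hr Nat.prime_two).1 (hr.dvd_of_dvd_pow h1)) hr2
        · exact Or.inl ((Nat.prime_dvd_prime_iff_eq hr Nat.prime_three).1 (hr.dvd_of_dvd_pow h1))
      · exact Or.inr (Or.inl ((Nat.prime_dvd_prime_iff_eq hr (by norm_num)).1 h1))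
    · exact Or.inr (Or.inr ((Nat.prime_dvd_prime_iff_eq hr (by norm_num)).1 h1))
  have hprn : ∀ r : ℕ, r.Prime → r ∣ n → r ≠ p ∧ (r = 3 ∨ r = 5 ∨ r = 7) := by
    intro r hr hrn
    refine ⟨?_, hpr r hr (B.ne_two hrn) (B.gn r hr hrn)⟩
    rintro rfl
    exact B.A.not_p_dvd_n hrn
  obtain ⟨e, c, E⟩ := B.A.exists_ep
  have hpm := E.p_mod B.A
  have hdn : ∀ r : ℕ, r ∣ n → (r : ℤ) ∣ (p : ℤ) ^ k + e := by
    intro r hr
    rw [← E.hn]
    exact dvd_mul_of_dvd_right (Int.natCast_dvd_natCast.2 hr) _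
  have cyc : ∀ (p r : ℕ) (L : List ℕ), p ^ 1 % r ∈ L → (∀ x ∈ L, x * p ^ 2 % r ∈ L) →
      ∀ i : ℕ, p ^ (2 * i + 1) % r ∈ L := by
    intro p r L h1 h2 i
    induction i with
    | zero => exact h1
    | succ i ih =>
      have e1 : p ^ (2 * (i + 1) + 1) = p ^ (2 * i + 1) * p ^ 2 := by rw [← pow_add]; congr 1
      have := h2 _ ih
      rw [Nat.mod_mul_mod] at this
      rw [e1]
      exact this
  obtain ⟨i, hi⟩ := B.A.ko
  obtain ⟨r, hr, hrn⟩ := B.exists_prime
  rcases hpr p B.A.hp B.A.hp2 B.gp with rfl | rfl | rfl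
  · have he : e = -1 := by omega
    have h5 : ¬ 5 ∣ n := by
      intro h
      have h1 := hdn 5 h
      rw [he] at h1
      have h2 := cyc 3 5 [3, 2] (by decide) (by decide) i
      rw [← hi] at h2
      simp only [List.mem_cons, List.not_mem_nil, or_false] at h2
      have h3 : ((3 : ℤ) ^ k) = ((3 ^ k : ℕ) : ℤ) := by push_cast; rfl
      push_cast at h1
      rw [h3] at h1
      omega
    have h7 : ¬ 7 ∣ n := by
      intro h
      have h1 := hdn 7 h
      rw [he] at h1
      have h2 := cyc 3 7 [3, 6, 5] (by decide) (by decide) i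
      rw [← hi] at h2
      simp only [List.mem_cons, List.not_mem_nil, or_false] at h2
      have h3 : ((3 : ℤ) ^ k) = ((3 ^ k : ℕ) : ℤ) := by push_cast; rfl
      push_cast at h1
      rw [h3] at h1
      omega
    obtain ⟨h1, h2 | h2 | h2⟩ := hprn r hr hrn
    · exact h1 h2
    · rw [h2] at hrn; exact h5 hrn
    · rw [h2] at hrn; exact h7 hrn
  · have key : 3 ∣ n ∧ 7 ∣ n := by
      constructor
      · by_contra h
        have := B.single (r₀ := 7) fun r hr hrn => by
          obtain ⟨h1, h2 | h2 | h2⟩ := hprn r hr hrn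
          · rw [h2] at hrn; exact absurd hrn h
          · exact absurd h2 h1
          · exact h2
        omega
      · by_contra h
        have := B.single (r₀ := 3) fun r hr hrn => by
          obtain ⟨h1, h2 | h2 | h2⟩ := hprn r hr hrn
          · exact h2
          · exact absurd h2 h1
          · rw [h2] at hrn; exact absurd hrn h
        omega
    obtain ⟨g, hg⟩ := B.gnn 3 7 (by norm_num) (by norm_num) key.1 key.2 (by norm_num)
    have h1 := H375.LThree.om_orderOf g
    rw [hg, hF] at h1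
    revert h1
    unfold H375.LThree.Om H375.LThree.nn H375.LThree.xx H375.LThree.ee H375.LThree.dd
    decide
  · have he : e = -1 := by omega
    have h5 : ¬ 5 ∣ n := by
      intro h
      have h1 := hdn 5 h
      rw [he] at h1
      have h2 := cyc 7 5 [2, 3] (by decide) (by decide) i
      rw [← hi] at h2
      simp only [List.mem_cons, List.not_mem_nil, or_false] at h2
      have h3 : ((7 : ℤ) ^ k) = ((7 ^ k : ℕ) : ℤ) := by push_cast; rfl
      push_cast at h1
      rw [h3] at h1
      omega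
    have := B.single (r₀ := 3) fun r hr hrn => by
      obtain ⟨h1, h2 | h2 | h2⟩ := hprn r hr hrn
      · exact h2
      · rw [h2] at hrn; exact absurd hrn h5
      · exact absurd h2 h1
    omega

/-- **`PSL_n(q)`.** -/
theorem altL2_of_psl {S : Type*} [Group S] (h : Cfsg.IsPSL S) {p f n m : ℕ} (B : PB S p f n m) :
    RedTwo.AltL2 S := by
  obtain ⟨F, _, _, k, hk, h4, ⟨e⟩⟩ := h
  rcases Nat.lt_or_ge k 3 with hk3 | hk3
  · obtain rfl : k = 2 := by omega
    rcases Nat.even_or_odd (Fintype.card F) with he | ho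
    · rcases Nat.lt_or_ge (Fintype.card F) 8 with h8 | h8
      · have hF : Fintype.card F = 4 := by
          have h5 := h4 rfl
          have h6 : Fintype.card F ≠ 6 := by
            intro h6
            obtain ⟨s, hs⟩ := CharP.exists F
            obtain ⟨g, hsp, hsg⟩ := FiniteField.card F s
            rw [h6] at hsg
            have h2 : s ∣ 2 * 3 := by
              have : s ∣ s ^ (g : ℕ) := dvd_pow_self s g.2.ne'
              rw [← hsg] at this
              exact this
            have h7 : 2 ∣ s ^ (g : ℕ) := by rw [← hsg]; norm_num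
            have h8 : 3 ∣ s ^ (g : ℕ) := by rw [← hsg]; norm_num
            have h9 := (Nat.prime_dvd_prime_iff_eq Nat.prime_two hsp).1 (Nat.prime_two.dvd_of_dvd_pow h7)
            have h10 := (Nat.prime_dvd_prime_iff_eq Nat.prime_three hsp).1 (Nat.prime_three.dvd_of_dvd_pow h8)
            omega
          obtain ⟨c, hc⟩ := he
          omega
        obtain ⟨e'⟩ := Cfsg.Agent.S0252.result hF
        exact altL2_five (e.trans e')
      · exact (not_psl_two_even h8 he (B.congr e)).elim
    · exact Or.inr ⟨F, inferInstance, inferInstance, ho, ⟨e⟩⟩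
  · by_cases h24 : k = 3 ∧ (Nat.card F = 2 ∨ Nat.card F = 4)
    · obtain ⟨rfl, h2 | h2⟩ := h24
      · have : Fact (Nat.Prime 7) := ⟨by norm_num⟩
        refine altL2_of_galois 7 1 one_ne_zero (by decide) fun F' _ _ hF' => ?_
        obtain ⟨e'⟩ := Cfsg.Agent.S0255.result (F := F') (K := F) (by rw [hF']; norm_num)
          (by rw [← Nat.card_eq_fintype_card, h2])
        exact ⟨e.trans e'.symm⟩
      · rw [Nat.card_eq_fintype_card] at h2
        exact (not_psl_three_four h2 (B.congr e)).elim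
    · refine (B.not_two (Two.congr e.symm ?_)).elim
      intro a b ha hb ha2 hb2 hda hdb
      rcases Psl.three hk3 ha hb ha2 hb2 hda hdb with h | h | h | h
      · exact Or.inl h
      · exact Or.inr (Or.inl h)
      · exact Or.inr (Or.inr h)
      · exact absurd h h24

end Cfsg.Agent.H824.PG
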