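import Cfsg.Agent.H824.PG.Num
import Cfsg.Agent.H824.PG.Fam
import Cfsg.Agent.H371.Core.OMinus

/-!
# `PΩ⁻(2m, q)` (prime graph version)
-/

set_option autoImplicit false

namespace Cfsg.Agent.H824.PG

open QuadraticMap
open Cfsg.Agent.LieClassical.OrthCore Cfsg.Agent.LieClassical.OrthForms
open Cfsg.Agent.H182.Sign Cfsg.Agent.H403.Classify Cfsg.Agent.H182.Orth
open Cfsg.Agent.H94 Cfsg.Agent.H371 Cfsg.Agent.H371.Core

/-- numerics: `{a, b}`, `2 a = X + 1`, `4 b = 3 X + 1`, `3 ∣ X` -/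
theorem num_minus {p k n m' a b X : ℕ} (A : Ak p k n m') (ha : 2 * a = X + 1) (hb : 4 * b = 3 * X + 1)
    (hX : 3 ∣ X) (h : (∃ j, a = p ^ j ∧ p ∣ a ∧ ∀ r : ℕ, r.Prime → r ∣ n → r ∣ b) ∨
      (∃ j, b = p ^ j ∧ p ∣ b ∧ ∀ r : ℕ, r.Prime → r ∣ n → r ∣ a)) : False := by
  obtain ⟨e, c, E⟩ := A.exists_ep
  have ha' : 2 * (a : ℤ) = X + 1 := by exact_mod_cast ha
  have hb' : 4 * (b : ℤ) = 3 * X + 1 := by exact_mod_cast hb
  have hc1 : c = 1 := by
    by_contra hc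
    obtain ⟨r, hr, hrc⟩ := Nat.exists_prime_and_dvd hc
    have hrn := hrc.trans E.cn
    have hr2 := A.odd_of hrn
    have hpr : Prime (r : ℤ) := Nat.prime_iff_prime_int.1 hr
    have hr2' : ¬ (r : ℤ) ∣ 2 := fun h => hr2 (prime_dvd_small hr h Nat.prime_two (Or.inl rfl))
    rcases h with ⟨j, hj, -, hn⟩ | ⟨j, hj, -, hn⟩
    · have h1 := E.res hrc j
      have hj' : (p : ℤ) ^ j = a := by exact_mod_cast hj.symm
      rw [hj'] at h1
      have h2 : (r : ℤ) ∣ b := Int.natCast_dvd_natCast.2 (hn r hr hrn)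
      rcases h1 with h1 | h1
      · have h3 : (r : ℤ) ∣ 2 ^ 2 := by
          have : (2 : ℤ) ^ 2 = b * 4 - (a - 1) * 6 := by linarith
          rw [this]
          exact dvd_sub (dvd_mul_of_dvd_left h2 _) (dvd_mul_of_dvd_left h1 _)
        exact hr2' (hpr.dvd_of_dvd_pow h3)
      · have h3 : (r : ℤ) ∣ 2 ^ 3 := by
          have : (2 : ℤ) ^ 3 = (a + 1) * 6 - b * 4 := by linarith
          rw [this]
          exact dvd_sub (dvd_mul_of_dvd_left h1 _) (dvd_mul_of_dvd_left h2 _)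
        exact hr2' (hpr.dvd_of_dvd_pow h3)
    · have h1 := E.res hrc j
      have hj' : (p : ℤ) ^ j = b := by exact_mod_cast hj.symm
      rw [hj'] at h1
      have h2 : (r : ℤ) ∣ a := Int.natCast_dvd_natCast.2 (hn r hr hrn)
      rcases h1 with h1 | h1
      · have h3 : (r : ℤ) ∣ 2 * 3 := by
          have : (2 : ℤ) * 3 = a * 6 - (b - 1) * 4 := by linarith
          rw [this]
          exact dvd_sub (dvd_mul_of_dvd_left h2 _) (dvd_mul_of_dvd_left h1 _)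
        rcases hpr.dvd_or_dvd h3 with h4 | h4
        · exact hr2' h4
        · have h5 : r = 3 := prime_dvd_small hr h4 Nat.prime_three (Or.inl rfl)
          have h6 := hn r hr hrn
          rw [h5] at h6
          omega
      · have h3 : (r : ℤ) ∣ 2 := by
          have : (2 : ℤ) = (b + 1) * 4 - a * 6 := by linarith
          rw [this]
          exact dvd_sub (dvd_mul_of_dvd_left h1 _) (dvd_mul_of_dvd_left h2 _)
        exact hr2' h3
  have hp3 := E.p_eq_three A hc1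
  rcases h with ⟨j, -, h1, -⟩ | ⟨j, -, h1, -⟩
  · rw [hp3] at h1; omega
  · rw [hp3] at h1; omega

section

variable {F : Type*} [Field F] [Finite F] {ι : Type} [Fintype ι] [DecidableEq ι]
  {Q : QuadraticForm F (ι → F)} {m : ℕ}

theorem minus_false (hQ : Sg Q m (-1)) (hm : 5 ≤ m) (hmo : Odd m) (h3 : Nat.card F = 3) {c k : ℕ}
    (hc : c * k = Nat.card F ^ (m * (m - 1)) * (Nat.card F ^ m + 1) *
      ∏ i ∈ Finset.range (m - 1), (Nat.card F ^ (2 * (i + 1)) - 1)) (hk : k = Nat.card (Cfsg.POmega F ⇑Q))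
    {p f n m' : ℕ} (B : PB (Cfsg.POmega F ⇑Q) p f n m') : False := by
  have hm4 : 4 ≤ m := by omega
  have hcases : ∀ r : ℕ, r.Prime → r ≠ 2 → r ∣ Nat.card (Cfsg.POmega F ⇑Q) → ¬ PG.Conn (Cfsg.POmega F ⇑Q) 2 r →
      r ∣ 3 ^ (m - 1) + 1 ∨ r ∣ 3 ^ m + 1 := by
    intro r hr hr2 hd hnc
    rcases minus_cases hQ hm4 hc hr hr2 (by rw [hk]; exact hd) with h | ⟨h, -⟩ | h
    · exact absurd h hnc
    · rw [h3] at h
      exact Or.inl h
    · rw [h3] at h
      exact Or.inr h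
  have hex : ∀ N : ℕ, Odd N → N ∣ 3 ^ (m - 1) + 1 ∨ N ∣ 3 ^ m + 1 → ∃ s : Cfsg.POmega F ⇑Q, orderOf s = N := by
    intro N hN h
    rw [← h3] at h
    exact exists_orderOf_minus hQ hm4 hN h
  obtain ⟨l, hl⟩ := hmo
  set X := 3 ^ (m - 1) with hX
  have hX3 : 3 ^ m = 3 * X := by
    rw [hX, ← pow_succ']
    congr 1
    omega
  have hX8 : X % 8 = 1 := by
    have e : m - 1 = 2 * l := by omega
    rw [hX, e, pow_mul, Nat.pow_mod]
    norm_num
  have hXd : 3 ∣ X := dvd_pow_self 3 (by omega)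
  obtain ⟨a, ha⟩ : ∃ a, 2 * a = X + 1 := ⟨(X + 1) / 2, by omega⟩
  obtain ⟨b, hb⟩ : ∃ b, 4 * b = 3 * X + 1 := ⟨(3 * X + 1) / 4, by omega⟩
  have hao : Odd a := by
    rw [Nat.odd_iff]; omega
  have hbo : Odd b := by
    rw [Nat.odd_iff]; omega
  rw [hX3, ← ha, ← hb] at hcases
  rw [hX3, ← ha, ← hb] at hex
  have hab : ∀ r : ℕ, r.Prime → r ≠ 2 → r ∣ Nat.card (Cfsg.POmega F ⇑Q) → ¬ PG.Conn (Cfsg.POmega F ⇑Q) 2 r →
      r ∣ a ∨ r ∣ b := by
    intro r hr hr2 hd hnc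
    rcases hcases r hr hr2 hd hnc with h | h
    · exact Or.inl ((hr.dvd_mul.1 h).resolve_left fun h => hr2 ((Nat.prime_dvd_prime_iff_eq hr Nat.prime_two).1 h))
    · refine Or.inr ((hr.dvd_mul.1 h).resolve_left fun h => hr2 ?_)
      exact (Nat.prime_dvd_prime_iff_eq hr Nat.prime_two).1 (hr.dvd_of_dvd_pow (n := 2) h)
  refine num_minus B.A ha hb hXd ?_
  have hne : ∀ {T : ℕ} {j : ℕ}, T = p ^ j → ∀ r : ℕ, r.Prime → r ∣ n → ¬ r ∣ T := by
    intro T j hT r hr hrn h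
    rw [hT] at h
    have := (Nat.prime_dvd_prime_iff_eq hr B.A.hp).1 (hr.dvd_of_dvd_pow h)
    subst this
    exact B.A.not_p_dvd_n hrn
  rcases hab p B.A.hp B.A.hp2 B.gp B.not_conn_p with h | h
  · obtain ⟨j, hj⟩ := B.eq_pow (by omega) (hex a hao (Or.inl (Dvd.intro_left 2 rfl))) h
    refine Or.inl ⟨j, hj, h, fun r hr hrn => ?_⟩
    exact (hab r hr (B.ne_two hrn) (B.gn r hr hrn) (B.not_conn_n hr hrn)).resolve_left (hne hj r hr hrn)
  · obtain ⟨j, hj⟩ := B.eq_pow (by omega) (hex b hbo (Or.inr (Dvd.intro_left 4 rfl))) h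
    refine Or.inr ⟨j, hj, h, fun r hr hrn => ?_⟩
    exact (hab r hr (B.ne_two hrn) (B.gn r hr hrn) (B.not_conn_n hr hrn)).resolve_right (hne hj r hr hrn)

end

/-- **No `PΩ⁻(2m, q)`.** -/
theorem not_pOmegaMinus {S : Type*} [Group S] (h : Cfsg.IsPOmegaMinus S) {p f n m' : ℕ} (B : PB S p f n m') :
    False := by
  rcases conn_of_isPOmegaMinus h with h | ⟨F, _, _, m, a, b, h3, hm, -, hm4, hab, ⟨e⟩⟩
  · exact B.not_two fun ha hb ha2 hb2 hda hdb => h ha hb ha2 hb2 hda hdb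
  · have hcard := Cfsg.Agent.S0294.result (F := F) rfl m hm4 a b hab
    simp only [← Nat.card_eq_fintype_card] at hcard
    have hs := sg_minusForm (F := F) (m - 1) hab
    rw [Nat.sub_add_cancel (by omega)] at hs
    have hmo : Odd m := hm.odd_of_ne_two (by omega)
    have hm5 : 5 ≤ m := by
      obtain ⟨l, hl⟩ := hmo
      omega
    have B' := B.congr e
    rw [← coe_minusForm] at B' hcard
    exact minus_false hs hm5 hmo (by rw [Nat.card_eq_fintype_card, h3]) hcard rfl B'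

end Cfsg.Agent.H824.PG
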