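import Cfsg.Agent.H824.PG.SzReeNum
import Cfsg.Agent.S2238
import Cfsg.Agent.S0324
import Cfsg.Agent.S1159
import Cfsg.Agent.OddCyclic.ClaimC.SzIso

/-!
# Suzuki groups and small Ree groups (prime graph version)
-/

set_option autoImplicit false

namespace Cfsg.Agent.H824.PG

open Cfsg.Agent.H94 Cfsg.Agent.H371

theorem not_sz' {F : Type*} [Field F] [Fintype F] {a : ℕ} (hk : 1 ≤ a) (hF : Fintype.card F = 2 ^ (2 * a + 1))
    {p k n m : ℕ} (B : PB ↥(Cfsg.Sz F a) p k n m) : False := by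
  have hcard := Cfsg.Agent.S0324.result hk hF
  set q := 2 ^ (2 * a + 1) with hq
  set t := 2 ^ (a + 1) with ht
  have hfin : Finite ↥(Cfsg.Sz F a) := Nat.finite_of_card_ne_zero (by
    rw [hcard]
    have : 2 ≤ q := by rw [hq]; exact Nat.le_self_pow (by omega) 2
    have h1 : 0 < q ^ 2 * (q ^ 2 + 1) * (q - 1) := by
      apply Nat.mul_pos (Nat.mul_pos (by positivity) (by positivity)) (by omega)
    omega)
  -- cyclic subgroups containing odd elements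
  have key : ∀ x : ↥(Cfsg.Sz F a), x ≠ 1 → ¬ 2 ∣ orderOf x →
      ∃ T, (T = q - 1 ∨ T = q + t + 1 ∨ T = q - t + 1) ∧ orderOf x ∣ T ∧ ∃ g : ↥(Cfsg.Sz F a), orderOf g = T := by
    intro x hx1 hx2
    obtain ⟨U, ⟨hU, hxU⟩, -⟩ := Cfsg.Agent.S2238.result hk hF x hx1
    rcases hU with ⟨P, rfl⟩ | ⟨hc, hN⟩
    · exfalso
      obtain ⟨j, hj⟩ := P.isPGroup' ⟨x, hxU⟩
      have h3 : x ^ 2 ^ j = 1 := congrArg Subtype.val hj
      have h4 : orderOf x ∣ 2 ^ j := orderOf_dvd_of_pow_eq_one h3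
      obtain ⟨i, -, hi⟩ := (Nat.dvd_prime_pow Nat.prime_two).1 h4
      rcases Nat.eq_zero_or_pos i with h0 | h0
      · rw [h0, pow_zero] at hi
        exact hx1 (orderOf_eq_one_iff.1 hi)
      · exact hx2 (hi ▸ dvd_pow_self 2 h0.ne')
    · refine ⟨Nat.card U, ?_, ?_, ?_⟩
      · rcases hN with h | h | h
        · exact Or.inl h
        · exact Or.inr (Or.inl h)
        · exact Or.inr (Or.inr h)
      · rw [← Subgroup.orderOf_mk x hxU]
        exact orderOf_dvd_natCard _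
      · obtain ⟨u, hu⟩ := hc.exists_generator
        refine ⟨u, ?_⟩
        rw [Subgroup.orderOf_coe]
        exact orderOf_eq_card_of_forall_mem_zpowers hu
  -- the numbers
  obtain ⟨b, hb⟩ : ∃ b : ℤ, b = 2 ^ a := ⟨_, rfl⟩
  have hqb : (q : ℤ) = 2 * b ^ 2 := by
    rw [hb, hq]
    push_cast
    rw [pow_succ, pow_mul']
    ring
  have htb : (t : ℤ) = 2 * b := by
    rw [hb, ht]
    push_cast
    ring
  have hb2 : 2 ≤ b := by
    rw [hb]
    calc (2 : ℤ) = 2 ^ 1 := by norm_num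
      _ ≤ 2 ^ a := pow_le_pow_right₀ (by norm_num) hk
  have htq : t ≤ q := by
    have : (t : ℤ) ≤ q := by rw [hqb, htb]; nlinarith
    exact_mod_cast this
  have hq1 : 1 ≤ q := Nat.one_le_two_pow
  have hcast : ∀ T : ℕ, (T = q - 1 ∨ T = q + t + 1 ∨ T = q - t + 1) →
      (T : ℤ) = 2 * b ^ 2 - 1 ∨ (T : ℤ) = 2 * b ^ 2 + 2 * b + 1 ∨ (T : ℤ) = 2 * b ^ 2 - 2 * b + 1 := by
    rintro T (rfl | rfl | rfl)
    · left; push_cast [Nat.cast_sub hq1]; rw [hqb]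
    · right; left; push_cast; rw [hqb, htb]
    · right; right; push_cast [Nat.cast_sub htq]; rw [hqb, htb]
  have hTodd : ∀ T : ℕ, (T = q - 1 ∨ T = q + t + 1 ∨ T = q - t + 1) → ¬ 2 ∣ T := by
    intro T hT h2
    have h3 := Int.natCast_dvd_natCast.2 h2
    push_cast at h3
    rcases hcast T hT with h | h | h <;> rw [h] at h3
    · have : (2 * b ^ 2 - 1 : ℤ) = 2 * (b ^ 2) - 1 := by ring
      rw [this] at h3; omega
    · have : (2 * b ^ 2 + 2 * b + 1 : ℤ) = 2 * (b ^ 2 + b) + 1 := by ring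
      rw [this] at h3; omega
    · have : (2 * b ^ 2 - 2 * b + 1 : ℤ) = 2 * (b ^ 2 - b) + 1 := by ring
      rw [this] at h3; omega
  -- the numbers are coprime
  have hbp : ∀ r : ℕ, r.Prime → (r : ℤ) ∣ b → r = 2 := by
    intro r hr h
    rw [hb] at h
    have h1 : (r : ℤ) ∣ ((2 : ℕ) : ℤ) := (Nat.prime_iff_prime_int.1 hr).dvd_of_dvd_pow h
    exact (Nat.prime_dvd_prime_iff_eq hr Nat.prime_two).1 (Int.natCast_dvd_natCast.1 h1)
  have hcop : ∀ T T' r : ℕ, (T = q - 1 ∨ T = q + t + 1 ∨ T = q - t + 1) →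
      (T' = q - 1 ∨ T' = q + t + 1 ∨ T' = q - t + 1) → r.Prime → r ∣ T → r ∣ T' → T = T' := by
    intro T T' r hT hT' hr h1 h2
    have hr2 : r ≠ 2 := by rintro rfl; exact hTodd T hT h1
    have hpr : Prime (r : ℤ) := Nat.prime_iff_prime_int.1 hr
    have hz1 : (r : ℤ) ∣ (T : ℤ) := Int.natCast_dvd_natCast.2 h1
    have hz2 : (r : ℤ) ∣ (T' : ℤ) := Int.natCast_dvd_natCast.2 h2
    have no2 : ∀ z : ℤ, (r : ℤ) ∣ z → z = 2 ∨ z = -2 → False := by
      intro z h hz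
      exact hr2 (prime_dvd_small hr h Nat.prime_two (by simpa using hz))
    have nob : (r : ℤ) ∣ 4 * b → False := by
      intro h
      rcases hpr.dvd_or_dvd h with h | h
      · have : (4 : ℤ) = 2 ^ 2 := by norm_num
        rw [this] at h
        exact no2 2 (hpr.dvd_of_dvd_pow h) (Or.inl rfl)
      · exact hr2 (hbp r hr h)
    have e1 : ∀ {z w : ℤ}, z = 2 * b ^ 2 - 1 → w = 2 * b ^ 2 + 2 * b + 1 → (r : ℤ) ∣ z → (r : ℤ) ∣ w → False := by
      rintro z w rfl rfl h3 h4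
      refine no2 2 ?_ (Or.inl rfl)
      have : (2 : ℤ) = (2 * b ^ 2 + 2 * b + 1) * (2 * b ^ 2 - 2 * b + 1) - (2 * b ^ 2 - 1) * (2 * b ^ 2 + 1) := by ring
      rw [this]
      exact dvd_sub (dvd_mul_of_dvd_left h4 _) (dvd_mul_of_dvd_left h3 _)
    have e2 : ∀ {z w : ℤ}, z = 2 * b ^ 2 - 1 → w = 2 * b ^ 2 - 2 * b + 1 → (r : ℤ) ∣ z → (r : ℤ) ∣ w → False := by
      rintro z w rfl rfl h3 h4
      refine no2 2 ?_ (Or.inl rfl)
      have : (2 : ℤ) = (2 * b ^ 2 - 2 * b + 1) * (2 * b ^ 2 + 2 * b + 1) - (2 * b ^ 2 - 1) * (2 * b ^ 2 + 1) := by ring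
      rw [this]
      exact dvd_sub (dvd_mul_of_dvd_left h4 _) (dvd_mul_of_dvd_left h3 _)
    have e3 : ∀ {z w : ℤ}, z = 2 * b ^ 2 + 2 * b + 1 → w = 2 * b ^ 2 - 2 * b + 1 → (r : ℤ) ∣ z → (r : ℤ) ∣ w → False := by
      rintro z w rfl rfl h3 h4
      apply nob
      have : (4 * b : ℤ) = (2 * b ^ 2 + 2 * b + 1) - (2 * b ^ 2 - 2 * b + 1) := by ring
      rw [this]
      exact dvd_sub h3 h4
    rcases hcast T hT with h3 | h3 | h3 <;> rcases hcast T' hT' with h4 | h4 | h4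
    · exact_mod_cast h3.trans h4.symm
    · exact (e1 h3 h4 hz1 hz2).elim
    · exact (e2 h3 h4 hz1 hz2).elim
    · exact (e1 h4 h3 hz2 hz1).elim
    · exact_mod_cast h3.trans h4.symm
    · exact (e3 h3 h4 hz1 hz2).elim
    · exact (e2 h4 h3 hz2 hz1).elim
    · exact (e3 h4 h3 hz2 hz1).elim
    · exact_mod_cast h3.trans h4.symm
  -- `T` and `T'`
  have := Fact.mk B.A.hp
  obtain ⟨x, hx⟩ := exists_prime_orderOf_dvd_card' p B.gp
  obtain ⟨r, hr, hrn⟩ := B.exists_prime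
  have := Fact.mk hr
  obtain ⟨y, hy⟩ := exists_prime_orderOf_dvd_card' r (B.gn r hr hrn)
  obtain ⟨T, hT, hxT, hgT⟩ := key x (by rintro rfl; rw [orderOf_one] at hx; exact B.A.hp.one_lt.ne hx)
    (by rw [hx]; intro h; exact B.A.hp2 ((Nat.prime_dvd_prime_iff_eq Nat.prime_two B.A.hp).1 h).symm)
  obtain ⟨T', hT', hyT, hgT'⟩ := key y (by rintro rfl; rw [orderOf_one] at hy; exact hr.one_lt.ne hy)
    (by rw [hy]; intro h; exact B.ne_two hrn ((Nat.prime_dvd_prime_iff_eq Nat.prime_two hr).1 h).symm)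
  rw [hx] at hxT
  rw [hy] at hyT
  have hT0 : T ≠ 0 := by
    obtain ⟨g, rfl⟩ := hgT
    exact (orderOf_pos g).ne'
  obtain ⟨j, hj⟩ := B.eq_pow hT0 hgT hxT
  have hn : ∀ s : ℕ, s.Prime → s ∣ n → s ∣ T' := by
    intro s hs hsn
    by_cases hrs : r = s
    · subst hrs; exact hyT
    obtain ⟨g, hg⟩ := B.gnn r s hr hs hrn hsn hrs
    obtain ⟨T'', hT'', hgT''⟩ := key g (by
      rintro rfl
      rw [orderOf_one] at hg
      have := Nat.mul_le_mul hr.two_le hs.two_le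
      omega) (by
      rw [hg]
      intro h
      rcases (Nat.Prime.dvd_mul Nat.prime_two).1 h with h | h
      · exact B.ne_two hrn ((Nat.prime_dvd_prime_iff_eq Nat.prime_two hr).1 h).symm
      · exact B.ne_two hsn ((Nat.prime_dvd_prime_iff_eq Nat.prime_two hs).1 h).symm)
    rw [hg] at hgT''
    have h1 := hcop T'' T' r hT'' hT' hr ((dvd_mul_right _ _).trans hgT''.1) hyT
    subst h1
    exact (dvd_mul_left _ _).trans hgT''.1
  have hne : T ≠ T' := by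
    rintro rfl
    rw [hj] at hyT
    have := (Nat.prime_dvd_prime_iff_eq hr B.A.hp).1 (hr.dvd_of_dvd_pow hyT)
    subst this
    exact B.A.not_p_dvd_n hrn
  have hneZ : (T : ℤ) ≠ T' := by exact_mod_cast hne
  refine num_Sz B.A (fun r₀ h => B.single h) hk hb (T := T) (T' := T') (j := j) (by rw [hj]; push_cast; rfl)
    (fun s hs hsn => Int.natCast_dvd_natCast.2 (hn s hs hsn)) ?_
  rcases hcast T hT with h3 | h3 | h3 <;> rcases hcast T' hT' with h4 | h4 | h4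
  · exact absurd (h3.trans h4.symm) hneZ
  · exact Or.inl ⟨h3, Or.inl h4⟩
  · exact Or.inl ⟨h3, Or.inr h4⟩
  · exact Or.inr ⟨1, Or.inl rfl, by rw [h3]; ring, Or.inl h4⟩
  · exact absurd (h3.trans h4.symm) hneZ
  · exact Or.inr ⟨1, Or.inl rfl, by rw [h3]; ring, Or.inr (by rw [h4]; ring)⟩
  · exact Or.inr ⟨-1, Or.inr rfl, by rw [h3]; ring, Or.inl h4⟩
  · exact Or.inr ⟨-1, Or.inr rfl, by rw [h3]; ring, Or.inr (by rw [h4]; ring)⟩
  · exact absurd (h3.trans h4.symm) hneZ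

/-- **No Suzuki group.** -/
theorem not_sz {S : Type*} [Group S] (h : Cfsg.Lie.IsoSuzuki S) {p k n m : ℕ} (B : PB S p k n m) : False := by
  obtain ⟨F, _, _, a, hk, hF, ⟨e⟩⟩ := h
  obtain ⟨e'⟩ := Cfsg.Agent.OddCyclic.ClaimC.SzIso.iso hk hF
  exact not_sz' hk hF (B.congr (e.trans e'.symm))

/-- **No small Ree group.** -/
theorem not_ree {S : Type*} [Group S] (h : Cfsg.Lie.IsoRee S) {p k n m : ℕ} (B : PB S p k n m) : False := by
  obtain ⟨K, _, _, a, hk, hK, ⟨e⟩⟩ := h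
  have B' := B.congr e
  have h1 := fun d => Cfsg.Agent.S1159.result hk hK d
  have hfin : Finite ↥(Cfsg.Lie.twistedG2 K (3 ^ a)) := inferInstance
  set q := 3 ^ (2 * a + 1) with hq
  set t := 3 ^ (a + 1) with ht
  obtain ⟨b, hb⟩ : ∃ b : ℤ, b = 3 ^ a := ⟨_, rfl⟩
  have hqb : (q : ℤ) = 3 * b ^ 2 := by
    rw [hb, hq]
    push_cast
    rw [pow_succ, pow_mul']
    ring
  have htb : (t : ℤ) = 3 * b := by
    rw [hb, ht]
    push_cast
    ring
  have hb3 : 3 ≤ b := by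
    rw [hb]
    calc (3 : ℤ) = 3 ^ 1 := by norm_num
      _ ≤ 3 ^ a := pow_le_pow_right₀ (by norm_num) hk
  have htq : t ≤ q := by
    have : (t : ℤ) ≤ q := by rw [hqb, htb]; nlinarith
    exact_mod_cast this
  have hq4 : q % 4 = 3 := by
    rw [hq, pow_succ, pow_mul, Nat.mul_mod, Nat.pow_mod]
    norm_num
  have hcast : ((q + t + 1 : ℕ) : ℤ) = 3 * b ^ 2 + 3 * b + 1 ∧ ((q - t + 1 : ℕ) : ℤ) = 3 * b ^ 2 - 3 * b + 1 := by
    constructor
    · push_cast; rw [hqb, htb]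
    · push_cast [Nat.cast_sub htq]; rw [hqb, htb]
  -- even orders
  have heven : ∀ {N r : ℕ}, (∃ g : ↥(Cfsg.Lie.twistedG2 K (3 ^ a)), orderOf g = N) → 2 ∣ N → r.Prime → r ∣ N →
      PG.Conn ↥(Cfsg.Lie.twistedG2 K (3 ^ a)) 2 r := by
    rintro N r ⟨g, rfl⟩ h2 hr hrN
    exact PG.conn_of_orderOf Nat.prime_two hr h2 hrN
  have h23 : PG.Conn ↥(Cfsg.Lie.twistedG2 K (3 ^ a)) 2 3 :=
    heven ((h1 6).2 (Or.inl dvd_rfl)) (by norm_num) Nat.prime_three (by norm_num)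
  have main : ∀ {N r : ℕ}, (∃ g : ↥(Cfsg.Lie.twistedG2 K (3 ^ a)), orderOf g = N) → r.Prime → r ∣ N → r ≠ 2 →
      ¬ PG.Conn ↥(Cfsg.Lie.twistedG2 K (3 ^ a)) 2 r → N ∣ q - t + 1 ∨ N ∣ q + t + 1 := by
    intro N r hN hr hrN hr2 hnc
    rcases (h1 N).1 hN with h | h | h | h | h | h
    · exfalso
      have h' : r ∣ 2 * 3 := hrN.trans h
      rcases (Nat.Prime.dvd_mul hr).1 h' with h' | h'
      · exact hr2 ((Nat.prime_dvd_prime_iff_eq hr Nat.prime_two).1 h')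
      · exact hnc ((Nat.prime_dvd_prime_iff_eq hr Nat.prime_three).1 h' ▸ h23)
    · exfalso
      have h' : r ∣ 3 ^ 2 := hrN.trans h
      exact hnc ((Nat.prime_dvd_prime_iff_eq hr Nat.prime_three).1 (hr.dvd_of_dvd_pow h') ▸ h23)
    · exact absurd (heven ((h1 _).2 (Or.inr (Or.inr (Or.inl dvd_rfl)))) (by omega) hr (hrN.trans h)) hnc
    · exact absurd (heven ((h1 _).2 (Or.inr (Or.inr (Or.inr (Or.inl dvd_rfl))))) (by omega) hr (hrN.trans h)) hnc
    · exact Or.inl h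
    · exact Or.inr h
  have hg1 := (h1 (q - t + 1)).2 (Or.inr (Or.inr (Or.inr (Or.inr (Or.inl dvd_rfl)))))
  have hg2 := (h1 (q + t + 1)).2 (Or.inr (Or.inr (Or.inr (Or.inr (Or.inr dvd_rfl)))))
  -- no common prime
  have hcop : ∀ r : ℕ, r.Prime → r ∣ q - t + 1 → r ∣ q + t + 1 → False := by
    intro r hr h2 h3
    have hpr : Prime (r : ℤ) := Nat.prime_iff_prime_int.1 hr
    have h4 := Int.natCast_dvd_natCast.2 h2
    have h5 := Int.natCast_dvd_natCast.2 h3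
    rw [hcast.1] at h5
    rw [hcast.2] at h4
    have hr1 : ¬ (r : ℤ) ∣ 1 := fun h => hpr.not_isUnit (isUnit_of_dvd_one h)
    have h6 : (r : ℤ) ∣ 2 * (3 * b) := by
      have : (2 * (3 * b) : ℤ) = (3 * b ^ 2 + 3 * b + 1) - (3 * b ^ 2 - 3 * b + 1) := by ring
      rw [this]; exact dvd_sub h5 h4
    rcases hpr.dvd_or_dvd h6 with h7 | h7
    · have h8 : r = 2 := prime_dvd_small hr h7 Nat.prime_two (Or.inl rfl)
      subst h8
      have h9 : (2 : ℤ) ∣ (b * (b + 1)) := (Int.even_mul_succ_self b).two_dvd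
      apply hr1
      have : (1 : ℤ) = (3 * b ^ 2 + 3 * b + 1) - 3 * (b * (b + 1)) := by ring
      rw [this]
      exact dvd_sub h5 (dvd_mul_of_dvd_right h9 _)
    · apply hr1
      have : (1 : ℤ) = (3 * b ^ 2 + 3 * b + 1) - (3 * b) * (b + 1) := by ring
      rw [this]
      exact dvd_sub h5 (dvd_mul_of_dvd_left h7 _)
  have := Fact.mk B'.A.hp
  obtain ⟨x, hx⟩ := exists_prime_orderOf_dvd_card' p B'.gp
  obtain ⟨r, hr, hrn⟩ := B'.exists_prime
  have := Fact.mk hr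
  obtain ⟨y, hy⟩ := exists_prime_orderOf_dvd_card' r (B'.gn r hr hrn)
  have hP := main ⟨x, hx⟩ B'.A.hp dvd_rfl B'.A.hp2 B'.not_conn_p
  have hN := main ⟨y, hy⟩ hr dvd_rfl (B'.ne_two hrn) (B'.not_conn_n hr hrn)
  have hall : ∀ s : ℕ, s.Prime → s ∣ n → r ≠ s → r * s ∣ q - t + 1 ∨ r * s ∣ q + t + 1 := by
    intro s hs hsn hrs
    exact main (B'.gnn r s hr hs hrn hsn hrs) hr (dvd_mul_right _ _) (B'.ne_two hrn) (B'.not_conn_n hr hrn)
  have hpr : p ≠ r := by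
    rintro rfl
    exact B'.A.not_p_dvd_n hrn
  have fin : ∀ (s : ℤ) (T T' : ℕ), (s = 1 ∨ s = -1) → (T : ℤ) = 3 * b ^ 2 + 3 * s * b + 1 →
      (T' : ℤ) = 3 * b ^ 2 - 3 * s * b + 1 → p ∣ T → r ∣ T' → (∀ r : ℕ, r.Prime → r ∣ T → r ∣ T' → False) →
      (∃ g : ↥(Cfsg.Lie.twistedG2 K (3 ^ a)), orderOf g = T) →
      (∀ s : ℕ, s.Prime → s ∣ n → r ≠ s → r * s ∣ T ∨ r * s ∣ T') → False := by
    intro s T T' hs hT hT' hpT hrT' hcop hg hall
    have hT0 : T ≠ 0 := by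
      obtain ⟨g, rfl⟩ := hg
      exact (orderOf_pos g).ne'
    obtain ⟨j, hj⟩ := B'.eq_pow hT0 hg hpT
    refine num_Ree B.A (fun r₀ h => B.single h) hk hb (T := T) (T' := T') (j := j) (by rw [hj]; push_cast; rfl)
      (fun u hu hun => Int.natCast_dvd_natCast.2 ?_) hs hT hT'
    by_cases hru : r = u
    · subst hru; exact hrT'
    · rcases hall u hu hun hru with h | h
      · exact (hcop r hr ((dvd_mul_right _ _).trans h) hrT').elim
      · exact (dvd_mul_left _ _).trans h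
  rcases hP with hP | hP <;> rcases hN with hN | hN
  · obtain ⟨j, hj⟩ := B'.eq_pow (by omega) hg1 hP
    rw [hj] at hN
    exact hpr ((Nat.prime_dvd_prime_iff_eq hr B.A.hp).1 (hr.dvd_of_dvd_pow hN)).symm
  · refine fin (-1) _ _ (Or.inr rfl) (by rw [hcast.2]; ring) (by rw [hcast.1]; ring) hP hN hcop hg1 hall
  · refine fin 1 _ _ (Or.inl rfl) (by rw [hcast.1]; ring) (by rw [hcast.2]; ring) hP hN
      (fun r hr h2 h3 => hcop r hr h3 h2) hg2 fun s hs hsn hrs => (hall s hs hsn hrs).symm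
  · obtain ⟨j, hj⟩ := B'.eq_pow (by omega) hg2 hP
    rw [hj] at hN
    exact hpr ((Nat.prime_dvd_prime_iff_eq hr B.A.hp).1 (hr.dvd_of_dvd_pow hN)).symm

end Cfsg.Agent.H824.PG
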