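import Cfsg.Agent.H824.PG.Fam
import Cfsg.Agent.H371.Core.TwF4

/-!
# `²F₄(q)` (prime graph version)
-/

set_option autoImplicit false
set_option linter.unusedSectionVars false

namespace Cfsg.Agent.H824.PG

open Cfsg Cfsg.Lie
open Cfsg.Agent.H94 Cfsg.Agent.H371 Cfsg.Agent.H493 Cfsg.Agent.H371.Core

section arith
variable {p k n m : ℕ}

/-- no square -/
theorem twF4_sq {x y : ℤ} (hx : x ≠ 0) (hx1 : x ≠ -1) :
    4 * x ^ 4 + 4 * x ^ 3 + 2 * x ^ 2 + 2 * x + 1 ≠ y ^ 2 := by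
  intro h
  rw [← sq_abs y] at h
  have hy := abs_nonneg y
  generalize |y| = y at *
  have h0 : 0 ≤ 2 * x ^ 2 + x := by nlinarith [sq_nonneg x, sq_nonneg (x + 1), Int.natAbs_pos.2 hx]
  have h1 : 0 < (x + 1) ^ 2 := by
    have : x + 1 ≠ 0 := fun h => hx1 (by linarith)
    positivity
  have h2 : 0 < x ^ 2 := by positivity
  have h3 : 2 * x ^ 2 + x < y := by
    by_contra hc
    push Not at hc
    have : y ^ 2 ≤ (2 * x ^ 2 + x) ^ 2 := pow_le_pow_left₀ hy hc 2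
    nlinarith
  have h4 : y < 2 * x ^ 2 + x + 1 := by
    by_contra hc
    push Not at hc
    have : (2 * x ^ 2 + x + 1) ^ 2 ≤ y ^ 2 := pow_le_pow_left₀ (by linarith) hc 2
    nlinarith
  omega

/-- **Numerics for `²F₄`.** -/
theorem num_TwF4 (A : Ak p k n m) {a : ℕ} (ha : 1 ≤ a) {x T T' : ℤ} (hx : x = 2 ^ a ∨ x = -2 ^ a)
    (hT : T = 4 * x ^ 4 + 4 * x ^ 3 + 2 * x ^ 2 + 2 * x + 1)
    (hT' : T' = 4 * x ^ 4 - 4 * x ^ 3 + 2 * x ^ 2 - 2 * x + 1) {j : ℕ} (hj : T = (p : ℤ) ^ j)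
    (hn : ∀ r : ℕ, r.Prime → r ∣ n → (r : ℤ) ∣ T')
    (hm : ∀ r : ℕ, r.Prime → (r : ℤ) ∣ 2 * 2 ^ a * (2 * (2 ^ a) ^ 2 + 1) → r ∣ m) : False := by
  obtain ⟨e, c, E⟩ := A.exists_ep
  obtain ⟨b, hb⟩ : ∃ b : ℤ, b = 2 ^ a := ⟨_, rfl⟩
  have hb2 : 2 ≤ b := by
    rw [hb]
    calc (2 : ℤ) = 2 ^ 1 := by norm_num
      _ ≤ 2 ^ a := pow_le_pow_right₀ (by norm_num) ha
  rw [← hb] at hx hm
  have hx2 : x ^ 2 = b ^ 2 := by rcases hx with rfl | rfl <;> ring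
  obtain ⟨x', hx'⟩ : ∃ x', x = 2 * x' := by
    obtain ⟨a', rfl⟩ : ∃ a', a = a' + 1 := ⟨a - 1, by omega⟩
    rcases hx with rfl | rfl
    · exact ⟨2 ^ a', by rw [hb, pow_succ]; ring⟩
    · exact ⟨-2 ^ a', by rw [hb, pow_succ]; ring⟩
  have hx0 : x ≠ 0 := by omega
  have hx1 : x ≠ -1 := by omega
  -- bounds
  have e3 : x ^ 3 = x * b ^ 2 := by rw [pow_succ', hx2]
  have e4 : x ^ 4 = b ^ 4 := by rw [show x ^ 4 = (x ^ 2) ^ 2 by ring, hx2]; ring
  have hT1 : T = 4 * b ^ 4 + 4 * x * b ^ 2 + 2 * b ^ 2 + 2 * x + 1 := by rw [hT, e4, e3, hx2]; ring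
  have a2 : 4 ≤ b ^ 2 := by nlinarith
  have a3 : 2 * b ^ 2 ≤ b ^ 3 := by nlinarith [mul_nonneg (sq_nonneg b) (by linarith : (0 : ℤ) ≤ b - 2)]
  have a4 : 2 * b ^ 3 ≤ b ^ 4 := by
    nlinarith [mul_nonneg (pow_nonneg (by linarith : (0 : ℤ) ≤ b) 3) (by linarith : (0 : ℤ) ≤ b - 2)]
  have hTlt : T ≤ 8 * b ^ 4 := by
    rw [hT1]
    rcases hx with hx | hx
    · have : 4 * b * b ^ 2 = 4 * b ^ 3 := by ring
      rw [hx, this]
      nlinarith
    · have : 4 * -b * b ^ 2 = -(4 * b ^ 3) := by ring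
      rw [hx, this]
      nlinarith
  have hT1' : 1 < T := by
    rw [hT1]
    rcases hx with hx | hx
    · have : 4 * b * b ^ 2 = 4 * b ^ 3 := by ring
      rw [hx, this]
      nlinarith
    · have : 4 * -b * b ^ 2 = -(4 * b ^ 3) := by ring
      rw [hx, this]
      nlinarith
  -- `j` is odd
  have hjo : Odd j := by
    by_contra hc
    rw [Nat.not_odd_iff_even] at hc
    obtain ⟨i, rfl⟩ := hc
    refine twF4_sq hx0 hx1 (y := (p : ℤ) ^ i) ?_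
    rw [← hT, hj]
    ring
  rcases E.p_mod A with ⟨rfl, hp4⟩ | ⟨rfl, hp4⟩
  swap
  · have h4 : p ^ j % 4 = 3 := by
      obtain ⟨i, rfl⟩ := hjo
      rw [pow_add, pow_mul, Nat.mul_mod, Nat.pow_mod, Nat.pow_mod p 2, hp4]
      norm_num [hp4]
    have h1 : ((p ^ j : ℕ) : ℤ) = 4 * (16 * x' ^ 4 + 8 * x' ^ 3 + 2 * x' ^ 2 + x') + 1 := by
      push_cast
      rw [← hj, hT, hx']
      ring
    omega
  -- `T + 1 = 2 * 229 ^ M`
  have hDz : ((((2 * b * (2 * b ^ 2 + 1)).natAbs : ℕ)) : ℤ) = 2 * b * (2 * b ^ 2 + 1) :=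
    Int.natAbs_of_nonneg (by positivity)
  obtain ⟨M, hM0, hM⟩ := EEightNT.step (v := T) (l := 229) (D := (2 * b * (2 * b ^ 2 + 1)).natAbs) A.hp hp4
    A.ko hj hT1' (by
      rw [hDz, hT]
      rcases hx with hx | hx
      · exact ⟨b + 1, by rw [hx]; ring⟩
      · exact ⟨-(-b + 1), by rw [hx]; ring⟩) (by
      intro r hr hrD
      have h1 : (r : ℤ) ∣ 2 * b * (2 * b ^ 2 + 1) := by
        rw [← hDz]
        exact Int.natCast_dvd_natCast.2 hrD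
      have h4 := E.two_m (hm r hr h1)
      have h5 : 1 ≤ p ^ k := Nat.one_le_pow _ _ A.hp.pos
      have h6 : ((p ^ k - 1 : ℕ) : ℤ) = (p : ℤ) ^ k - 1 := by push_cast [Nat.cast_sub h5]; rfl
      rw [← h6] at h4
      exact_mod_cast h4) (by
      intro P n' hP hn' hPn hle
      have h3 := EEightNT.size hP hn'
      have h4 : ((2 * b * (2 * b ^ 2 + 1)).natAbs) ^ 2 ≤ 4 * P ^ n' := (Nat.pow_le_pow_left hle 2).trans h3
      have h5 : (((2 * b * (2 * b ^ 2 + 1)).natAbs ^ 2 : ℕ) : ℤ) ≤ ((4 * P ^ n' : ℕ) : ℤ) := by exact_mod_cast h4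
      rw [Nat.cast_pow, hDz] at h5
      push_cast at h5
      rw [← hPn] at h5
      have h6 : (2 * b * (2 * b ^ 2 + 1)) ^ 2 = 16 * b ^ 6 + 16 * b ^ 4 + 4 * b ^ 2 := by ring
      have h7 : 4 * b ^ 4 ≤ b ^ 6 := by
        have : b ^ 6 = b ^ 2 * b ^ 4 := by ring
        rw [this]
        exact mul_le_mul_of_nonneg_right a2 (by positivity)
      nlinarith) (by
      intro r hr hr2 hrk hd
      have hrn : r ∣ n := by
        have h1 : (r : ℤ) ∣ 2 * (n : ℤ) := by rw [E.hn]; exact_mod_cast hrk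
        have h2 : r ∣ 2 * n := by exact_mod_cast h1
        exact (hr.dvd_mul.1 h2).resolve_left fun h => hr2 ((Nat.prime_dvd_prime_iff_eq hr Nat.prime_two).1 h)
      have h1 := hn r hr hrn
      have hpr : Prime (r : ℤ) := Nat.prime_iff_prime_int.1 hr
      have h2 : (r : ℤ) ∣ 2 * x ^ 4 + 2 * x ^ 3 + x ^ 2 + x + 1 := by
        have h3 : (r : ℤ) ∣ 2 * (2 * x ^ 4 + 2 * x ^ 3 + x ^ 2 + x + 1) := by
          have : 2 * (2 * x ^ 4 + 2 * x ^ 3 + x ^ 2 + x + 1) = T + 1 := by rw [hT]; ring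
          rw [this]; exact hd
        rcases hpr.dvd_or_dvd h3 with h4 | h4
        · exact absurd (prime_dvd_small hr h4 Nat.prime_two (Or.inl rfl)) hr2
        · exact h4
      refine prime_dvd_small hr (z := 229) ?_ (by norm_num) (Or.inl rfl)
      rw [hT'] at h1
      have h3 : (229 : ℤ) = (2 * x ^ 4 + 2 * x ^ 3 + x ^ 2 + x + 1) * (154 - 104 * x - 32 * x ^ 2 - 16 * x ^ 3) +
          (4 * x ^ 4 - 4 * x ^ 3 + 2 * x ^ 2 - 2 * x + 1) * (75 + 100 * x + 32 * x ^ 2 + 8 * x ^ 3) := by ring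
      rw [h3]
      exact dvd_add (dvd_mul_of_dvd_left h2 _) (dvd_mul_of_dvd_left h1 _))
  push_cast at hM
  have hM' : (229 : ℤ) ^ M - 1 = x * ((x + 1) * (2 * x ^ 2 + 1)) := by
    rw [hT] at hM
    linarith
  -- `2 ^ a ≤ 4 M`
  have hd : 2 ^ a ∣ (229 - 1) * M := by
    refine EEightNT.lte (by norm_num) hM0 ?_ ?_ (fun _ => by norm_num)
    · have h1 : ((229 ^ M - 1 : ℕ) : ℤ) = (229 : ℤ) ^ M - 1 := by
        push_cast [Nat.cast_sub (Nat.one_le_pow _ _ (by norm_num : 0 < 229))]; rfl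
      rw [← Int.natCast_dvd_natCast, h1, hM']
      push_cast
      rw [← hb]
      rcases hx with hx | hx
      · rw [hx]; exact dvd_mul_right _ _
      · exact ⟨-((-b + 1) * (2 * (-b) ^ 2 + 1)), by rw [hx]; ring⟩
    · intro r hr hrD
      have := (Nat.prime_dvd_prime_iff_eq hr Nat.prime_two).1 (hr.dvd_of_dvd_pow hrD)
      subst this
      norm_num
  have hd2 : 2 ^ a ≤ 4 * M := by
    refine Nat.le_of_dvd (by omega) ?_
    have h1 : 2 ^ a ∣ 57 * (4 * M) := by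
      have : 57 * (4 * M) = (229 - 1) * M := by omega
      rw [this]; exact hd
    exact (Nat.Coprime.pow_left a (by norm_num : Nat.Coprime 2 57)).dvd_of_dvd_mul_left h1
  have hbM : b ≤ 4 * M := by rw [hb]; exact_mod_cast hd2
  have hM1 : M = 1 := by
    by_contra hc
    have hM2 : 2 ≤ M := by omega
    have h8 : ∀ i : ℕ, 2 ≤ i → 4 * (4 * i) ^ 4 < 229 ^ i := by
      intro i hi
      induction i, hi using Nat.le_induction with
      | base => norm_num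
      | succ i hi ih =>
        rw [pow_succ 229 i]
        have : 4 * (4 * (i + 1)) ^ 4 ≤ 229 * (4 * (4 * i) ^ 4) := by
          have h9 : 2 * (i + 1) ≤ 3 * i := by omega
          have h10 := Nat.pow_le_pow_left h9 4
          have h11 : (2 * (i + 1)) ^ 4 = 16 * (i + 1) ^ 4 := by ring
          have h12 : (3 * i) ^ 4 = 81 * i ^ 4 := by ring
          have h13 : (4 * (i + 1)) ^ 4 = 256 * (i + 1) ^ 4 := by ring
          have h14 : (4 * i) ^ 4 = 256 * i ^ 4 := by ring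
          omega
        omega
    have h9 := h8 M hM2
    have h10 : (4 * (4 * (M : ℤ)) ^ 4) < 229 ^ M := by exact_mod_cast h9
    have h11 : b ^ 4 ≤ (4 * M) ^ 4 := pow_le_pow_left₀ (by linarith) hbM 4
    have h12 : 2 * (229 : ℤ) ^ M = T + 1 := hM.symm
    nlinarith
  subst hM1
  have h4 : 2 ^ a ≤ 4 := by omega
  have ha2 : a = 1 ∨ a = 2 := by
    by_contra hc
    have h5 : 2 ^ 3 ≤ 2 ^ a := Nat.pow_le_pow_right (by norm_num) (by omega)
    omega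
  rcases ha2 with rfl | rfl <;> norm_num at hb <;> rcases hx with hx | hx <;> rw [hx, hb] at hM' <;> norm_num at hM'

end arith

open TwF4 in
theorem not_2F4' {K : Type*} [Field K] [Fintype K] {a : ℕ} (hk : 1 ≤ a) (hK : Fintype.card K = 2 ^ (2 * a + 1))
    {p k n m : ℕ} (B : PB ↥(twistedF4 K (2 ^ a)) p k n m) : False := by
  have hcard := Cfsg.Agent.S1068.result hK
  obtain ⟨b, hbb⟩ : ∃ b : ℤ, (2 : ℤ) ^ a = b := ⟨_, rfl⟩
  have hb : (2 : ℤ) ≤ b := by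
    rw [← hbb]
    calc (2 : ℤ) = 2 ^ 1 := by norm_num
      _ ≤ 2 ^ a := pow_le_pow_right₀ (by norm_num) hk
  -- the two numbers
  have hPpos : 0 < PGF4T.fP b := by unfold PGF4T.fP; positivity
  have hMpos : 0 < PGF4T.fM b := by
    unfold PGF4T.fM
    nlinarith [pow_pos (by linarith : (0 : ℤ) < b) 3, mul_pos (pow_pos (by linarith : (0 : ℤ) < b) 3) (by linarith : (0 : ℤ) < b - 1)]
  obtain ⟨P, hP⟩ : ∃ P : ℕ, (P : ℤ) = PGF4T.fP b := ⟨(PGF4T.fP b).toNat, Int.toNat_of_nonneg hPpos.le⟩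
  obtain ⟨M, hM⟩ : ∃ M : ℕ, (M : ℤ) = PGF4T.fM b := ⟨(PGF4T.fM b).toNat, Int.toNat_of_nonneg hMpos.le⟩
  have gP := exists_cert hK PGF4T.chainEp_ok PGF4T.hThEp PGF4T.certEp_fP (N := P) (by rw [hP, hbb])
  have gM := exists_cert hK PGF4T.chainEm_ok PGF4T.hThEm PGF4T.certEm_fM (N := M) (by rw [hM, hbb])
  -- the classes
  have hcov : ∀ r : ℕ, r.Prime → r ∣ Nat.card ↥(twistedF4 K (2 ^ a)) → ¬ H94.PG.Conn ↥(twistedF4 K (2 ^ a)) 2 r →
      r ∣ P ∨ r ∣ M := by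
    intro r hr hd hnc
    rcases PGF4T.cover (m := a) hr (by rw [← hcard]; exact hd) with h | h | h
    · exact absurd (conn_of_conn (PGF4T.conn_main hk hK hr h)).symm hnc
    · rw [hbb, ← hP] at h
      exact Or.inl (Int.natCast_dvd_natCast.1 h)
    · rw [hbb, ← hM] at h
      exact Or.inr (Int.natCast_dvd_natCast.1 h)
  have hm : ∀ r : ℕ, r.Prime → (r : ℤ) ∣ 2 * 2 ^ a * (2 * (2 ^ a) ^ 2 + 1) → r ∣ m := by
    intro r hr hd
    refine B.dvd_m_of_conn (conn_of_conn (PGF4T.conn_main hk hK hr ?_)).symm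
    have hpr : Prime (r : ℤ) := Nat.prime_iff_prime_int.1 hr
    have h2 : ∀ z : ℤ, (r : ℤ) ∣ 2 → r = 2 := fun _ h => prime_dvd_small hr h Nat.prime_two (Or.inl rfl)
    rcases hpr.dvd_or_dvd hd with h | h
    · left
      rcases hpr.dvd_or_dvd h with h | h
      · exact h2 0 h
      · exact h2 0 (hpr.dvd_of_dvd_pow h)
    · right; right; left
      exact h
  have fin : ∀ (x : ℤ) (T T' : ℕ), (x = 2 ^ a ∨ x = -2 ^ a) → (T : ℤ) = 4 * x ^ 4 + 4 * x ^ 3 + 2 * x ^ 2 + 2 * x + 1 →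
      (T' : ℤ) = 4 * x ^ 4 - 4 * x ^ 3 + 2 * x ^ 2 - 2 * x + 1 → p ∣ T →
      (∃ g : ↥(twistedF4 K (2 ^ a)), orderOf g = T) →
      (∀ r : ℕ, r.Prime → r ∣ Nat.card ↥(twistedF4 K (2 ^ a)) → ¬ H94.PG.Conn ↥(twistedF4 K (2 ^ a)) 2 r →
        r ∣ T ∨ r ∣ T') → False := by
    intro x T T' hx hT hT' hpT hg hc
    have hT0 : T ≠ 0 := by
      obtain ⟨g, rfl⟩ := hg
      exact (orderOf_pos g).ne'
    obtain ⟨j, hj⟩ := B.eq_pow hT0 hg hpT
    refine num_TwF4 B.A hk hx (T := T) (T' := T') hT hT' (j := j) (by rw [hj]; push_cast; rfl)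
      (fun r hr hrn => ?_) hm
    rcases hc r hr (B.gn r hr hrn) (B.not_conn_n hr hrn) with h | h
    · rw [hj] at h
      have := (Nat.prime_dvd_prime_iff_eq hr B.A.hp).1 (hr.dvd_of_dvd_pow h)
      subst this
      exact absurd hrn B.A.not_p_dvd_n
    · exact Int.natCast_dvd_natCast.2 h
  rcases hcov p B.A.hp B.gp B.not_conn_p with h | h
  · refine fin (2 ^ a) P M (Or.inl rfl) ?_ ?_ h gP hcov
    · rw [hbb, hP, PGF4T.fP]
    · rw [hbb, hM, PGF4T.fM]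
  · refine fin (-2 ^ a) M P (Or.inr rfl) ?_ ?_ h gM fun r hr hd hnc => (hcov r hr hd hnc).symm
    · rw [hbb, hM, PGF4T.fM]; ring
    · rw [hbb, hP, PGF4T.fP]; ring

/-- **No `²F₄(q)`.** -/
theorem not_2F4 {S : Type*} [Group S] (h : Cfsg.Lie.Iso2F4 S) {p k n m : ℕ} (B : PB S p k n m) : False := by
  obtain ⟨K, _, _, a, hk, hK, ⟨e⟩⟩ := h
  exact not_2F4' hk hK (B.congr e)

end Cfsg.Agent.H824.PG
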