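import Cfsg.Agent.H824.PG.Spor
import Cfsg.Agent.H824.PG.Alt
import Cfsg.Agent.H824.PG.Lin
import Cfsg.Agent.H824.PG.Fam
import Cfsg.Agent.H824.PG.ExcTwo
import Cfsg.Agent.H824.PG.OMinus
import Cfsg.Agent.H824.PG.SzRee
import Cfsg.Agent.H824.PG.TwF4
import Cfsg.Agent.H371.Core.Classical

/-!
# The simple groups with the prime graph of `PSL_2(p ^ k)`
-/

set_option autoImplicit false

namespace Cfsg.Agent.H824.PG

open Cfsg Cfsg.Agent.H371 Cfsg.Agent.H371.Core

/-- **The known simple groups with prime graph classes `p`, `π(n)`, `π(m)`.** -/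
theorem core {S : Type*} [Group S] [Finite S] (hS : Cfsg.IsKnownSimple' S) (hc : ¬ Cfsg.IsPrimeCyclic S)
    (h2 : 2 ∣ Nat.card S) {p k n m : ℕ} (B : PB S p k n m) : RedTwo.AltL2 S := by
  rcases hS with h | h | h | h | h | h | h | h | h | h
  · exact absurd h hc
  · exact altL2_of_alt h B
  · exact altL2_of_psl h B
  · exact (B.not_two (two_psp h)).elim
  · exact (not_psu h B).elim
  · exact (B.not_two (two_pOmegaOdd h)).elim
  · exact (B.not_two (two_pOmegaPlus h)).elim
  · exact (not_pOmegaMinus h B).elim
  · rcases h with h | h | h | h | h | h | h | h | h | h | h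
    · exact (not_G2 h B).elim
    · exact (not_F4 h B).elim
    · exact (not_E6 h B).elim
    · exact (not_E7 h B).elim
    · exact (not_E8 h B).elim
    · exact (not_2E6 h B).elim
    · exact (not_3D4 h2 h B).elim
    · exact (not_sz h B).elim
    · exact (not_ree h B).elim
    · exact (not_2F4 h B).elim
    · exact (not_tits h B).elim
  · exact (not_sporadic h B).elim

end Cfsg.Agent.H824.PG
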