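import Cfsg.Agent.H824.PG.Arith

/-!
# Numerical elimination (prime graph version)
-/

set_option autoImplicit false

set_option exponentiation.threshold 500

namespace Cfsg.Agent.H824.PG

open Cfsg.Agent.H94 Cfsg.Agent.H371

/-- `(p ^ j + e) / 2` -/
def Nn (p j : ℕ) : ℕ := if p % 4 = 1 then (p ^ j + 1) / 2 else (p ^ j - 1) / 2

/-- the test -/
def Tst (p u j Q : ℕ) : Prop :=
  (j ∣ u - 1 ∧ j % 2 = 1 ∧ 3 ≤ j ∧ u ∣ Nn p j ∧ ¬ u ∣ Nn p 1) → (Nn p j < 2 ^ 400 ∧ ¬ Nn p j ∣ Q ^ 400)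

instance (p u j Q : ℕ) : Decidable (Tst p u j Q) := inferInstanceAs (Decidable (_ → _))

/-- the test -/
def Chk2 (R : Finset ℕ) : Prop :=
  ∀ p ∈ R, ∀ u ∈ R.erase p, ∀ j ∈ Finset.range u, Tst p u j (∏ r ∈ R.erase p, r)

instance (R : Finset ℕ) : Decidable (Chk2 R) :=
  inferInstanceAs (Decidable (∀ p ∈ R, ∀ u ∈ R.erase p, ∀ j ∈ Finset.range u, Tst p u j (∏ r ∈ R.erase p, r)))

theorem Ep.nn {p k n m : ℕ} {e : ℤ} {c : ℕ} (E : Ep p k n m e c) (A : Ak p k n m) {j N : ℕ}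
    (hN : 2 * (N : ℤ) = (p : ℤ) ^ j + e) : N = Nn p j := by
  have h1 : ((p : ℤ) ^ j) = ((p ^ j : ℕ) : ℤ) := by push_cast; rfl
  rw [h1] at hN
  unfold Nn
  rcases E.p_mod A with ⟨rfl, h⟩ | ⟨rfl, h⟩
  · rw [if_pos h]; omega
  · rw [if_neg (by omega)]; omega

theorem ord_dvd {u j : ℕ} (hu : u.Prime) (hj : j.Prime) {p e : ℤ} (he : e = 1 ∨ e = -1) (hjo : Odd j)
    (h1 : (u : ℤ) ∣ p ^ j + e) (h2 : ¬ (u : ℤ) ∣ p + e) : j ∣ u - 1 := by
  have := Fact.mk hu
  have he2 : e * e = 1 := by rcases he with h | h <;> rw [h] <;> norm_num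
  have hej : e ^ j = e := by
    rcases he with h | h <;> rw [h]
    · simp
    · exact hjo.neg_one_pow
  obtain ⟨x, hx⟩ : ∃ x : ZMod u, x = ((-e * p : ℤ) : ZMod u) := ⟨_, rfl⟩
  have hx1 : x ^ j = 1 := by
    have h3 : ((p ^ j + e : ℤ) : ZMod u) = 0 := (ZMod.intCast_zmod_eq_zero_iff_dvd _ _).2 h1
    have h4 : (-e * p : ℤ) ^ j = 1 - e * (p ^ j + e) := by
      have : (-e : ℤ) ^ j = - e := by rw [hjo.neg_pow, hej]
      rw [mul_pow, this]
      linear_combination he2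
    rw [hx, ← Int.cast_pow, h4]
    push_cast at h3 ⊢
    rw [h3]
    ring
  have hx2 : x ≠ 1 := by
    intro h
    apply h2
    rw [hx] at h
    have h3 : ((-e * (p + e) : ℤ) : ZMod u) = 0 := by
      have : (-e * (p + e) : ℤ) = -e * p - 1 := by linear_combination -he2
      rw [this, Int.cast_sub, h, Int.cast_one, sub_self]
    have h4 := (ZMod.intCast_zmod_eq_zero_iff_dvd _ _).1 h3
    have h5 : (p + e : ℤ) = -e * (-e * (p + e)) := by linear_combination (-(p + e)) * he2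
    rw [h5]
    exact dvd_mul_of_dvd_right h4 _
  have hx0 : x ≠ 0 := by
    rintro rfl
    rw [zero_pow hj.ne_zero] at hx1
    exact zero_ne_one hx1
  have h3 : orderOf x = j := by
    have := Fact.mk hj
    exact orderOf_eq_prime hx1 hx2
  rw [← h3]
  exact ZMod.orderOf_dvd_card_sub_one hx0

namespace PB
variable {S : Type*} [Group S] {p k n m : ℕ} (B : PB S p k n m)
include B

theorem finset_false (R : Finset ℕ) (hR : ∀ r, r.Prime → r ∣ Nat.card S → PG.Conn S 2 r ∨ r ∈ R)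
    (hL : Chk2 R) : False := by
  obtain ⟨e, c, E⟩ := B.A.exists_ep
  have hp : p ∈ R := (hR p B.A.hp B.gp).resolve_left B.not_conn_p
  have hmem : ∀ r, r.Prime → r ∣ n → r ∈ R.erase p := by
    intro r hr hrn
    rcases hR r hr (B.gn r hr hrn) with h | h
    · exact absurd h (B.not_conn_n hr hrn)
    · refine Finset.mem_erase.2 ⟨?_, h⟩
      rintro rfl
      exact B.A.not_p_dvd_n hrn
  have h1 := hL p hp
  obtain ⟨j, hj, hjk⟩ := Nat.exists_prime_and_dvd (n := k) (by have := B.A.k3; omega)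
  have hjo : Odd j := B.A.ko.of_dvd_nat hjk
  obtain ⟨N, hN, hNn, -⟩ := E.exists_N B.A hjk
  obtain ⟨u, hu, huN, huc⟩ := E.exists_u B.A hj hjk hN
  have hj3 : 3 ≤ j := by
    have h1 := hj.two_le
    rw [Nat.odd_iff] at hjo
    omega
  have hju : j ∣ u - 1 := by
    refine ord_dvd (p := p) (e := e) hu hj E.he hjo ?_ ?_
    · rw [← hN]
      exact dvd_mul_of_dvd_right (Int.natCast_dvd_natCast.2 huN) _
    · rw [← E.hc]
      intro h
      have h2 : u ∣ 2 * c := by exact_mod_cast h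
      rcases hu.dvd_mul.1 h2 with h3 | h3
      · exact B.ne_two (huN.trans hNn) ((Nat.prime_dvd_prime_iff_eq hu Nat.prime_two).1 h3)
      · exact huc h3
  have huR := hmem u hu (huN.trans hNn)
  have hNN := E.nn B.A hN
  have hcc : c = Nn p 1 := E.nn B.A (by rw [pow_one]; exact E.hc)
  have hjlt : j < u := by
    have := Nat.le_of_dvd (by have := hu.two_le; omega) hju
    have := hu.two_le
    omega
  rw [hNN] at huN hNn
  rw [hcc] at huc
  obtain ⟨h2, h3⟩ := h1 u huR j (Finset.mem_range.2 hjlt) ⟨hju, Nat.odd_iff.1 hjo, hj3, huN, huc⟩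
  apply h3
  rw [Nat.dvd_iff_prime_pow_dvd_dvd]
  intro r i hr hi
  rcases Nat.eq_zero_or_pos i with rfl | hi0
  · simp
  have hrn : r ∣ n := ((dvd_pow_self r hi0.ne').trans hi).trans hNn
  have hrQ : r ∣ ∏ r ∈ R.erase p, r := Finset.dvd_prod_of_mem _ (hmem r hr hrn)
  have hN0 : 0 < Nn p j := by
    rcases Nat.eq_zero_or_pos (Nn p j) with h | h
    · rw [h, zero_dvd_iff] at hNn
      have := B.A.hn3
      omega
    · exact h
  have hi400 : i ≤ 400 := by
    by_contra hc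
    have h4 : 2 ^ 400 ≤ r ^ i := (Nat.pow_le_pow_right (by norm_num) (by omega)).trans
      (Nat.pow_le_pow_left hr.two_le i)
    have h5 := Nat.le_of_dvd hN0 hi
    omega
  exact (pow_dvd_pow r hi400).trans (pow_dvd_pow_of_dvd hrQ 400)

/-- `n` is a prime power, `p ≠ 3` -/
theorem single {r₀ : ℕ} (h : ∀ r : ℕ, r.Prime → r ∣ n → r = r₀) : p = 3 := by
  obtain ⟨e, c, E⟩ := B.A.exists_ep
  exact E.single B.A h

/-- two isolated primes -/
theorem pair_false (a b : ℕ) (hR : ∀ r, r.Prime → r ∣ Nat.card S → PG.Conn S 2 r ∨ r = a ∨ r = b)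
    (ha : a ≠ 3) (hb : b ≠ 3) : False := by
  have h1 : ∀ r, r.Prime → r ∣ n → r ≠ p ∧ (r = a ∨ r = b) := by
    intro r hr hrn
    refine ⟨?_, (hR r hr (B.gn r hr hrn)).resolve_left (B.not_conn_n hr hrn)⟩
    rintro rfl
    exact B.A.not_p_dvd_n hrn
  rcases (hR p B.A.hp B.gp).resolve_left B.not_conn_p with h | h
  · have := B.single (r₀ := b) fun r hr hrn => by
      obtain ⟨h2, h3 | h3⟩ := h1 r hr hrn
      · exact absurd (h3.trans h.symm) h2
      · exact h3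
    omega
  · have := B.single (r₀ := a) fun r hr hrn => by
      obtain ⟨h2, h3 | h3⟩ := h1 r hr hrn
      · exact h3
      · exact absurd (h3.trans h.symm) h2
    omega

end PB

theorem chk_M : Chk2 {29, 41, 59, 71} := by decide +kernel
theorem chk_J4 : Chk2 {23, 29, 31, 37, 43} := by decide +kernel

end Cfsg.Agent.H824.PG
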