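import Cfsg.Agent.H824.PG.SzReeNum
import Cfsg.Agent.Lib.Zsigmondy

/-!
# Arithmetic for the socle `PSL_2(q')`, `q'` odd (prime graph version)
-/

set_option autoImplicit false

namespace Cfsg.Agent.H824.PG

open Cfsg.Agent.H94 Cfsg.Agent.H371

section
variable {p k n m : ℕ}

theorem dvd_sq_sub_one {a g u : ℕ} (ha : 1 ≤ a) (h : u ∣ a ^ g + 1) : u ∣ a ^ (2 * g) - 1 := by
  have h1 : 1 ≤ a ^ g := Nat.one_le_pow _ _ ha
  have h2 : a ^ (2 * g) - 1 = (a ^ g + 1) * (a ^ g - 1) := by
    obtain ⟨t, ht⟩ : ∃ t, a ^ g = t + 1 := ⟨a ^ g - 1, by omega⟩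
    rw [mul_comm 2 g, pow_mul, ht, Nat.add_sub_cancel]
    have : (t + 1) ^ 2 = (t + 1 + 1) * t + 1 := by ring
    omega
  rw [h2]
  exact dvd_mul_of_dvd_left h _

/-- **same characteristic** -/
theorem Ak.eq_exp (A : Ak p k n m) {g n' m' : ℕ} (B : Ar p g n' m') (hπ : ∀ r : ℕ, r.Prime → (r ∣ n ↔ r ∣ n')) :
    k = g := by
  obtain ⟨e, c, E⟩ := A.exists_ep
  have hp3 := A.p3
  have hk3 := A.k3
  have h2 : 2 ∣ p ^ 1 - 1 := by
    have := A.podd
    rw [pow_one]; omega
  have odd_dvd : ∀ {u x : ℕ}, u.Prime → u ≠ 2 → u ∣ 2 * x → u ∣ x := fun hu hu2 h =>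
    (hu.dvd_mul.1 h).resolve_left fun h => hu2 ((Nat.prime_dvd_prime_iff_eq hu Nat.prime_two).1 h)
  have h1k : 1 ≤ p ^ k := Nat.one_le_pow _ _ (by omega)
  have h1g : 1 ≤ p ^ g := Nat.one_le_pow _ _ (by omega)
  rcases E.p_mod A with ⟨rfl, h4⟩ | ⟨rfl, h4⟩
  · have hn : 2 * n = p ^ k + 1 := by exact_mod_cast E.hn
    have hn' : 2 * n' = p ^ g + 1 := by
      rcases B.h with ⟨h, -⟩ | ⟨h, -⟩
      · exact h
      · exfalso
        have h5 := B.hn
        rw [Nat.odd_iff] at h5
        have h6 : p ^ g % 4 = 3 := by omega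
        have := (pow_mod_four h6).1
        omega
    have key : ∀ {a b x y : ℕ}, 1 ≤ a → 2 * x = p ^ a + 1 → 2 * y = p ^ b + 1 →
        (∀ r : ℕ, r.Prime → r ∣ x → r ∣ y) → a ∣ b := by
      intro a b x y ha hx hy hxy
      obtain ⟨u, hu, hu1, -, -⟩ := Lib.Zsigmondy.exists_primitive (a := p) (n := 2 * a) (by omega) (by omega)
        (by
          rintro - ⟨i, hi⟩
          have : i ≤ 1 := by
            by_contra hc
            have : 4 ∣ 2 ^ i := pow_dvd_pow 2 (by omega : 2 ≤ i)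
            omega
          have : 2 ^ i ≤ 2 ^ 1 := Nat.pow_le_pow_right (by norm_num) this
          omega) (by omega)
      have hu2 : u ≠ 2 := by
        rintro rfl
        have := (hu1 1).1 h2
        have := Nat.le_of_dvd (by norm_num) this
        omega
      have h3 : u ∣ p ^ a + 1 := by
        have h4 := (hu1 (2 * a)).2 dvd_rfl
        have h5 : p ^ (2 * a) - 1 = (p ^ a + 1) * (p ^ a - 1) := by
          obtain ⟨t, ht⟩ : ∃ t, p ^ a = t + 1 := ⟨p ^ a - 1, by have := Nat.one_le_pow a p (by omega); omega⟩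
          rw [mul_comm 2 a, pow_mul, ht, Nat.add_sub_cancel]
          have : (t + 1) ^ 2 = (t + 1 + 1) * t + 1 := by ring
          omega
        rw [h5] at h4
        refine (hu.dvd_mul.1 h4).resolve_right fun h6 => ?_
        have := Nat.le_of_dvd (by omega) ((hu1 a).1 h6)
        omega
      have h4 : u ∣ y := hxy u hu (odd_dvd hu hu2 (by rw [hx]; exact h3))
      have h5 : u ∣ p ^ b + 1 := by rw [← hy]; exact h4.mul_left 2
      have h6 := (hu1 (2 * b)).1 (dvd_sq_sub_one (by omega) h5)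
      exact Nat.dvd_of_mul_dvd_mul_left (by norm_num) h6
    exact Nat.dvd_antisymm (key (by omega) hn hn' fun r hr h => (hπ r hr).1 h)
      (key (Nat.pos_of_ne_zero B.hf) hn' hn fun r hr h => (hπ r hr).2 h)
  · have hn : 2 * n + 1 = p ^ k := by
      have := E.hn
      have h5 : ((2 * n + 1 : ℕ) : ℤ) = ((p ^ k : ℕ) : ℤ) := by push_cast; linarith
      exact_mod_cast h5
    have hn0 : 2 * n = p ^ k - 1 := by omega
    obtain ⟨u, hu, hu1, -, -⟩ := Lib.Zsigmondy.exists_primitive (a := p) (n := k) (by omega) (by omega)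
        (by omega) (by omega)
    have hu2 : u ≠ 2 := by
      rintro rfl
      have := (hu1 1).1 h2
      have := Nat.le_of_dvd (by norm_num) this
      omega
    have h3 : u ∣ n' := (hπ u hu).1 (odd_dvd hu hu2 (by rw [hn0]; exact (hu1 k).2 dvd_rfl))
    rcases B.h with ⟨h, -⟩ | ⟨h, -⟩
    · exfalso
      have h5 : u ∣ p ^ g + 1 := by rw [← h]; exact h3.mul_left 2
      have h6 := (hu1 (2 * g)).1 (dvd_sq_sub_one (by omega) h5)
      have h7 : k ∣ g := (Nat.coprime_two_right.2 A.ko).dvd_of_dvd_mul_left h6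
      have h8 := (hu1 g).2 h7
      have h9 : u ∣ 2 := by
        have := Nat.dvd_sub h5 h8
        rwa [show p ^ g + 1 - (p ^ g - 1) = 2 by omega] at this
      exact hu2 ((Nat.prime_dvd_prime_iff_eq hu Nat.prime_two).1 h9)
    · have hn0' : 2 * n' = p ^ g - 1 := by omega
      have h5 : k ∣ g := (hu1 g).1 (by rw [← hn0']; exact h3.mul_left 2)
      have hg3 : 3 ≤ g := hk3.trans (Nat.le_of_dvd (Nat.pos_of_ne_zero B.hf) h5)
      obtain ⟨v, hv, hv1, -, -⟩ := Lib.Zsigmondy.exists_primitive (a := p) (n := g) (by omega) (by omega)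
        (by omega) (by omega)
      have hv2 : v ≠ 2 := by
        rintro rfl
        have := (hv1 1).1 h2
        have := Nat.le_of_dvd (by norm_num) this
        omega
      have h6 : v ∣ n := (hπ v hv).2 (odd_dvd hv hv2 (by rw [hn0']; exact (hv1 g).2 dvd_rfl))
      exact Nat.dvd_antisymm h5 ((hv1 k).1 (by rw [← hn0]; exact h6.mul_left 2))

/-- arithmetic for `p = 3` and another characteristic -/
theorem case_three {k s g n n' i j : ℕ} (hk : 3 ≤ k) (hko : Odd k) (h1 : 2 * n + 1 = 3 ^ k) (hn : n = s ^ i)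
    (hs : s.Prime) (hs2 : s ≠ 2) (hg0 : g ≠ 0) (h2 : 2 * n' = s ^ g + 1 ∨ 2 * n' + 1 = s ^ g) (hn' : n' = 3 ^ j)
    (hn3 : 3 ≤ n') : False := by
  have hn13 : 1 < n := by
    have : 3 ^ 3 ≤ 3 ^ k := Nat.pow_le_pow_right (by norm_num) hk
    omega
  have hi0 : i ≠ 0 := by
    rintro rfl
    rw [pow_zero] at hn
    omega
  have hj0 : j ≠ 0 := by
    rintro rfl
    rw [pow_zero] at hn'
    omega
  obtain ⟨l, hl⟩ := hko
  have hsn : s ∣ n := by rw [hn]; exact dvd_pow_self s hi0
  rcases Nat.lt_or_ge j 2 with hj | hj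
  · obtain rfl : j = 1 := by omega
    rw [pow_one] at hn'
    subst hn'
    have h57 : s = 5 ∨ s = 7 := by
      rcases h2 with h2 | h2
      · left
        have h3 : s ∣ 5 := by
          have : s ^ g = 5 := by omega
          rw [← this]; exact dvd_pow_self s hg0
        exact (Nat.prime_dvd_prime_iff_eq hs (by norm_num)).1 h3
      · right
        have h3 : s ∣ 7 := by
          have : s ^ g = 7 := by omega
          rw [← this]; exact dvd_pow_self s hg0
        exact (Nat.prime_dvd_prime_iff_eq hs (by norm_num)).1 h3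
    rcases h57 with rfl | rfl
    · have h3 : (n : ZMod 5) = 0 := (ZMod.natCast_eq_zero_iff n 5).2 hsn
      have h4 : ((2 * n + 1 : ℕ) : ZMod 5) = ((3 ^ k : ℕ) : ZMod 5) := by rw [h1]
      push_cast at h4
      rw [h3, hl, pow_add, pow_mul] at h4
      have h5 : ∀ l : ℕ, ((3 : ZMod 5) ^ 2) ^ l = 1 ∨ ((3 : ZMod 5) ^ 2) ^ l = -1 := by
        intro l
        have : (3 : ZMod 5) ^ 2 = -1 := by decide
        rw [this]
        exact neg_one_pow_eq_or _ _
      rcases h5 l with h5 | h5 <;> rw [h5] at h4 <;> revert h4 <;> decide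
    · have h3 : (n : ZMod 7) = 0 := (ZMod.natCast_eq_zero_iff n 7).2 hsn
      have h4 : ((2 * n + 1 : ℕ) : ZMod 7) = ((3 ^ k : ℕ) : ZMod 7) := by rw [h1]
      push_cast at h4
      rw [h3, hl, pow_add, pow_mul] at h4
      have h5 : ∀ l : ℕ, ((3 : ZMod 7) ^ 2) ^ l = 1 ∨ ((3 : ZMod 7) ^ 2) ^ l = 2 ∨ ((3 : ZMod 7) ^ 2) ^ l = 4 := by
        intro l
        induction l with
        | zero => left; rfl
        | succ l ih =>
          rw [pow_succ]
          rcases ih with h | h | h <;> rw [h] <;> decide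
      rcases h5 l with h5 | h5 | h5 <;> rw [h5] at h4 <;> revert h4 <;> decide
  · -- modulo `9`
    have p9 : ∀ j : ℕ, 2 ≤ j → ((3 : ZMod 9)) ^ j = 0 := by
      intro j hj
      obtain ⟨i, rfl⟩ : ∃ i, j = 2 + i := ⟨j - 2, by omega⟩
      rw [pow_add]
      have : (3 : ZMod 9) ^ 2 = 0 := by decide
      rw [this, zero_mul]
    have e1 : 2 * (s : ZMod 9) ^ i + 1 = 0 := by
      have h4 : ((2 * n + 1 : ℕ) : ZMod 9) = ((3 ^ k : ℕ) : ZMod 9) := by rw [h1]
      rw [hn] at h4
      push_cast at h4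
      rw [h4, p9 k (by omega)]
    have e2 : (s : ZMod 9) ^ g = 1 ∨ (s : ZMod 9) ^ g = -1 := by
      rcases h2 with h2 | h2
      · right
        have h4 : ((2 * n' : ℕ) : ZMod 9) = ((s ^ g + 1 : ℕ) : ZMod 9) := by rw [h2]
        rw [hn'] at h4
        push_cast at h4
        rw [p9 j hj, mul_zero] at h4
        exact (neg_eq_of_add_eq_zero_left h4.symm).symm
      · left
        have h4 : ((2 * n' + 1 : ℕ) : ZMod 9) = ((s ^ g : ℕ) : ZMod 9) := by rw [h2]
        rw [hn'] at h4
        push_cast at h4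
        rw [p9 j hj, mul_zero, zero_add] at h4
        exact h4.symm
    have hg3 : 3 ∣ g := by
      by_contra hc
      obtain ⟨x, hx⟩ : ∃ x : ZMod 9, x = (s : ZMod 9) := ⟨_, rfl⟩
      rw [← hx] at e1 e2
      have hx3 : x ^ 3 = 1 ∨ x ^ 3 = -1 := by
        have h5 : ∀ x : ZMod 9, x ^ 3 = 1 ∨ x ^ 3 = -1 ∨ x ^ 2 = 0 := by decide
        rcases h5 x with h6 | h6 | h6
        · exact Or.inl h6
        · exact Or.inr h6
        · exfalso
          have h7 : x ^ (2 * g) = 1 := by
            rw [mul_comm, pow_mul]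
            rcases e2 with h | h <;> rw [h] <;> decide
          rw [pow_mul, h6, zero_pow hg0] at h7
          revert h7; decide
      have hsq : x ^ 2 = 1 := by
        have h5 : g = 3 * (g / 3) + g % 3 := (Nat.div_add_mod g 3).symm
        have h6 : (x ^ 3) ^ (g / 3) = 1 ∨ (x ^ 3) ^ (g / 3) = -1 := by
          rcases hx3 with h | h <;> rw [h]
          · left; exact one_pow _
          · exact neg_one_pow_eq_or _ _
        rw [h5, pow_add, pow_mul] at e2
        have h7 : g % 3 = 1 ∨ g % 3 = 2 := by omega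
        have h8 : ∀ x : ZMod 9, ((x = 1 ∨ x = -1) ∨ (x ^ 2 = 1 ∨ x ^ 2 = -1)) → x ^ 2 = 1 := by decide
        apply h8
        rcases h7 with h7 | h7 <;> rw [h7] at e2
        · left
          rcases h6 with h | h <;> rw [h] at e2 <;> rcases e2 with e2 | e2
          · left; simpa using e2
          · right; simpa using e2
          · right
            have : x = -(-1 * x ^ 1) := by ring
            rw [this, e2]
          · left
            have : x = -(-1 * x ^ 1) := by ring
            rw [this, e2]; decide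
        · right
          rcases h6 with h | h <;> rw [h] at e2 <;> rcases e2 with e2 | e2
          · left; simpa using e2
          · right; simpa using e2
          · right
            have : x ^ 2 = -(-1 * x ^ 2) := by ring
            rw [this, e2]
          · left
            have : x ^ 2 = -(-1 * x ^ 2) := by ring
            rw [this, e2]; decide
      -- `x ^ i = ± 1`
      have h5 : (x ^ i) ^ 2 = 1 := by rw [← pow_mul, mul_comm, pow_mul, hsq, one_pow]
      have h6 : ∀ y : ZMod 9, y ^ 2 = 1 → 2 * y + 1 ≠ 0 := by decide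
      exact h6 _ h5 e1
    obtain ⟨g', rfl⟩ := hg3
    have hg' : g' ≠ 0 := by rintro rfl; exact hg0 rfl
    obtain ⟨y, hy⟩ : ∃ y : ℤ, y = (s : ℤ) ^ g' := ⟨_, rfl⟩
    have hy3 : 3 ≤ y := by
      have h3 : 3 ≤ s := by
        have := hs.two_le
        omega
      have h4 : 3 ≤ s ^ g' := h3.trans (Nat.le_self_pow hg' s)
      rw [hy]; exact_mod_cast h4
    have hys : ((s ^ (3 * g') : ℕ) : ℤ) = y ^ 3 := by
      rw [hy, mul_comm, pow_mul]; push_cast; rfl
    -- the common end
    have fin : ∀ d : ℤ, (d = 1 ∨ d = -1) → (y + d) * (y ^ 2 - d * y + 1) = 2 * 3 ^ j → False := by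
      intro d hd h
      obtain ⟨z, hz⟩ : ∃ z : ℕ, (z : ℤ) = y ^ 2 - d * y + 1 :=
        ⟨(y ^ 2 - d * y + 1).toNat, Int.toNat_of_nonneg (by rcases hd with rfl | rfl <;> nlinarith)⟩
      have h3 : z ∣ 2 * 3 ^ j := by
        have : (z : ℤ) ∣ 2 * 3 ^ j := by rw [hz]; exact ⟨y + d, by rw [← h]; ring⟩
        exact_mod_cast this
      have hzo : z % 2 = 1 := by
        have h4 : (2 : ℤ) ∣ y * (y - 1) := by
          have := (Int.even_mul_pred_self y).two_dvd
          exact this
        obtain ⟨w, hw⟩ := h4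
        have h5 : (z : ℤ) = 2 * (w + (if d = 1 then 0 else y)) + 1 := by
          rw [hz]
          rcases hd with rfl | rfl
          · rw [if_pos rfl]; linarith
          · rw [if_neg (by norm_num)]; linarith
        omega
      have h6 : z ∣ 3 ^ j := (Nat.coprime_two_right.2 (Nat.odd_iff.2 hzo)).dvd_of_dvd_mul_left h3
      obtain ⟨l', -, hl'⟩ := (Nat.dvd_prime_pow Nat.prime_three).1 h6
      have hz7 : 7 ≤ z := by
        have : (7 : ℤ) ≤ z := by
          rw [hz]
          rcases hd with rfl | rfl <;> nlinarith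
        exact_mod_cast this
      have hl2 : 2 ≤ l' := by
        by_contra hc
        have : 3 ^ l' ≤ 3 ^ 1 := Nat.pow_le_pow_right (by norm_num) (by omega)
        omega
      have h9 : (z : ZMod 9) = 0 := by
        rw [hl']
        push_cast
        exact p9 l' hl2
      have h10 : ((z : ℤ) : ZMod 9) = ((y ^ 2 - d * y + 1 : ℤ) : ZMod 9) := by rw [hz]
      push_cast at h10
      rw [h9] at h10
      have h11 : ∀ w : ZMod 9, 0 ≠ w ^ 2 - 1 * w + 1 ∧ 0 ≠ w ^ 2 - (-1) * w + 1 := by decide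
      rcases hd with rfl | rfl
      · push_cast at h10
        exact (h11 _).1 h10
      · push_cast at h10
        exact (h11 _).2 h10
    have hn'z : (n' : ℤ) = 3 ^ j := by rw [hn']; push_cast; rfl
    rcases h2 with h2 | h2
    · refine fin 1 (Or.inl rfl) ?_
      have h3 : ((2 * n' : ℕ) : ℤ) = ((s ^ (3 * g') : ℕ) : ℤ) + 1 := by rw [h2]; push_cast; rfl
      rw [hys] at h3
      push_cast at h3
      rw [hn'z] at h3
      rw [h3]; ring
    · refine fin (-1) (Or.inr rfl) ?_
      have h3 : ((2 * n' + 1 : ℕ) : ℤ) = ((s ^ (3 * g') : ℕ) : ℤ) := by rw [h2]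
      rw [hys] at h3
      push_cast at h3
      rw [hn'z] at h3
      linear_combination -h3

/-- **Socle `PSL_2(s ^ g)`, arithmetic.** -/
theorem Ak.eq_of_psl (A : Ak p k n m) {s g n' m' : ℕ} (B : Ar s g n' m')
    (hmm : ∀ r : ℕ, r.Prime → r ∣ m' → r ∣ m)
    (hn1 : ∀ r : ℕ, r.Prime → r ∣ n' → p ∣ n' → r = p)
    (hn2 : ∀ r t : ℕ, r.Prime → t.Prime → r ∣ n → r ∣ n' → t ∣ n' → t ∣ n)
    (hp : p = s ∨ p ∣ n' ∨ p ∣ m') (hr : ∀ r : ℕ, r.Prime → r ∣ n → r = s ∨ r ∣ n' ∨ r ∣ m') :
    p ^ k = s ^ g := by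
  have hpm' : ¬ p ∣ m' := fun h => A.not_p_dvd_m (hmm p A.hp h)
  have hr' : ∀ r : ℕ, r.Prime → r ∣ n → r = s ∨ r ∣ n' := by
    intro r hrp hrn
    rcases hr r hrp hrn with h | h | h
    · exact Or.inl h
    · exact Or.inr h
    · exact absurd (hmm r hrp h) (A.not_m hrp hrn)
  by_cases hps : p = s
  · subst hps
    rw [A.eq_exp B fun r hrp => ⟨fun h => ?_, fun h => ?_⟩]
    · rcases hr' r hrp h with h1 | h1
      · subst h1; exact absurd h A.not_p_dvd_n
      · exact h1
    · obtain ⟨t, ht, htn⟩ := Nat.exists_prime_and_dvd (n := n) (by have := A.hn3; omega)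
      rcases hr' t ht htn with h1 | h1
      · subst h1; exact absurd htn A.not_p_dvd_n
      · exact hn2 t r ht hrp htn h1 h
  · exfalso
    have hpn' : p ∣ n' := by
      rcases hp with h | h | h
      · exact absurd h hps
      · exact h
      · exact absurd h hpm'
    have h1 : ∀ r : ℕ, r.Prime → r ∣ n → r = s := by
      intro r hrp hrn
      rcases hr' r hrp hrn with h | h
      · exact h
      · have := hn1 r hrp h hpn'
        subst this
        exact absurd hrn A.not_p_dvd_n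
    obtain ⟨e, c, E⟩ := A.exists_ep
    have hp3 := E.single A h1
    subst hp3
    have hn0 : n ≠ 0 := by have := A.hn3; omega
    have hn0' : n' ≠ 0 := by have := B.hn3; omega
    have e1 := Nat.eq_prime_pow_of_unique_prime_dvd hn0 (fun {d} hd hdn => h1 d hd hdn)
    have e2 := Nat.eq_prime_pow_of_unique_prime_dvd hn0' (fun {d} hd hdn => hn1 d hd hdn hpn')
    rcases E.p_mod A with ⟨rfl, h4⟩ | ⟨rfl, h4⟩
    · omega
    have hn : 2 * n + 1 = 3 ^ k := by
      have := E.hn
      have h5 : ((2 * n + 1 : ℕ) : ℤ) = ((3 ^ k : ℕ) : ℤ) := by push_cast at this ⊢; linarith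
      exact_mod_cast h5
    refine case_three A.k3 A.ko hn e1 B.hp B.hp2 B.hf ?_ e2 B.hn3
    rcases B.h with ⟨h, -⟩ | ⟨h, -⟩
    · exact Or.inl h
    · exact Or.inr h

end

end Cfsg.Agent.H824.PG
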