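import Cfsg.Agent.H824.PG.Num
import Cfsg.Agent.H371.Core.Spor

/-!
# The sporadic groups and the Tits group (prime graph version)
-/

set_option autoImplicit false
set_option linter.unusedSectionVars false

namespace Cfsg.Agent.H824.PG

open Cfsg.Agent.H94 Cfsg.Agent.H94.PG.Sp

namespace PB
variable {S : Type*} [Group S] {p k n m : ℕ} (B : PB S p k n m)
include B

theorem spor_false {N : ℕ} (hN : Nat.card S = N) (R : List ℕ)
    (hR : ∀ r, r.Prime → r ∣ N → r ∉ R → Nr S r) (h : Chk2 R.toFinset) : False := by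
  subst hN
  refine B.finset_false R.toFinset (fun r hr hd => ?_) h
  by_cases hm : r ∈ R
  · exact Or.inr (List.mem_toFinset.2 hm)
  · exact Or.inl (hR r hr hd hm).conn.symm

theorem spor_pair {N : ℕ} (hN : Nat.card S = N) (a b : ℕ)
    (hR : ∀ r, r.Prime → r ∣ N → r ∉ [a, b] → Nr S r) (h : a ≠ 3 ∧ b ≠ 3) : False := by
  subst hN
  refine B.pair_false a b (fun r hr hd => ?_) h.1 h.2
  by_cases hm : r ∈ [a, b]
  · right
    simpa using hm
  · exact Or.inl (hR r hr hd hm).conn.symm

theorem spor_one {N : ℕ} (hN : Nat.card S = N) (a : ℕ)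
    (hR : ∀ r, r.Prime → r ∣ N → r ∉ [a] → Nr S r) (h : a ≠ 3) : False := by
  subst hN
  refine B.pair_false a a (fun r hr hd => ?_) h h
  by_cases hm : r ∈ [a]
  · right
    left
    simpa using hm
  · exact Or.inl (hR r hr hd hm).conn.symm

end PB

section
variable {S : Type*} [Group S] [Finite S] {p k n m : ℕ}

theorem not_m12 (h : Cfsg.Spor.IsoM12 S) (B : PB S p k n m) : False :=
  B.spor_one (NotCT.Orders.m12 h) 11 (fun _ hr hd hR => nr_m12' h hr hd hR) (by decide)

theorem not_m22 (h : Cfsg.Spor.IsoM22 S) (B : PB S p k n m) : False :=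
  B.spor_false (NotCT.Orders.m22 h) [5, 7, 11] (fun _ hr hd hR => nr_m22' h hr hd hR) (by decide +kernel)

theorem not_m23 (h : Cfsg.Spor.IsoM23 S) (B : PB S p k n m) : False :=
  B.spor_false (NotCT.Orders.m23 h) [5, 11, 23] (fun _ hr hd hR => nr_m23' h hr hd hR) (by decide +kernel)

theorem not_m24 (h : Cfsg.Spor.IsoM24 S) (B : PB S p k n m) : False :=
  B.spor_pair (NotCT.Orders.m24 h) 11 23 (fun _ hr hd hR => nr_m24' h hr hd hR) (by decide)

theorem not_j1 (h : Cfsg.Spor.IsoJ1 S) (B : PB S p k n m) : False :=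
  B.spor_false (NotCT.Orders.j1 h) [7, 11, 19] (fun _ hr hd hR => nr_j1 h hr hd hR) (by decide +kernel)

theorem not_j2 (h : Cfsg.Spor.IsoJ2 S) (B : PB S p k n m) : False :=
  B.spor_one (NotCT.Orders.j2 h) 7 (fun _ hr hd hR => nr_j2 h hr hd hR) (by decide)

theorem not_j3 (h : Cfsg.Spor.IsoJ3 S) (B : PB S p k n m) : False :=
  B.spor_pair (NotCT.Orders.j3 h) 17 19 (fun _ hr hd hR => nr_j3 h hr hd hR) (by decide)

theorem not_j4 (h : Cfsg.Spor.IsoJ4 S) (B : PB S p k n m) : False :=
  B.spor_false (NotCT.Orders.j4 h) [23, 29, 31, 37, 43] (fun _ hr hd hR => nr_j4 h hr hd hR) (by decide +kernel)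

theorem not_hs (h : Cfsg.Spor.IsoHS S) (B : PB S p k n m) : False :=
  B.spor_pair (NotCT.Orders.hs h) 7 11 (fun _ hr hd hR => nr_hs h hr hd hR) (by decide)

theorem not_mcl (h : Cfsg.Spor.IsoMcL S) (B : PB S p k n m) : False :=
  B.spor_one (NotCT.Orders.mcl h) 11 (fun _ hr hd hR => nr_mcl h hr hd hR) (by decide)

theorem not_suz (h : Cfsg.Spor.IsoSuz S) (B : PB S p k n m) : False :=
  B.spor_pair (NotCT.Orders.suz h) 11 13 (fun _ hr hd hR => nr_suz h hr hd hR) (by decide)

theorem not_ly (h : Cfsg.Spor.IsoLy S) (B : PB S p k n m) : False :=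
  B.spor_false (NotCT.Orders.ly h) [31, 37, 67] (fun _ hr hd hR => nr_ly h hr hd hR) (by decide +kernel)

theorem not_he (h : Cfsg.Spor.IsoHe S) (B : PB S p k n m) : False :=
  B.spor_one (NotCT.Orders.he h) 17 (fun _ hr hd hR => nr_he h hr hd hR) (by decide)

theorem not_ru (h : Cfsg.Spor.IsoRu S) (B : PB S p k n m) : False :=
  B.spor_one (NotCT.Orders.ru h) 29 (fun _ hr hd hR => nr_ru h hr hd hR) (by decide)

theorem not_on (h : Cfsg.Spor.IsoON S) (B : PB S p k n m) : False :=
  B.spor_false (NotCT.Orders.on h) [11, 19, 31] (fun _ hr hd hR => nr_on h hr hd hR) (by decide +kernel)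

theorem not_co1 (h : Cfsg.Spor.IsoCo1 S) (B : PB S p k n m) : False :=
  B.spor_one (NotCT.Orders.co1 h) 23 (fun _ hr hd hR => nr_co1 h hr hd hR) (by decide)

theorem not_co2 (h : Cfsg.Spor.IsoCo2 S) (B : PB S p k n m) : False :=
  B.spor_pair (NotCT.Orders.co2 h) 11 23 (fun _ hr hd hR => nr_co2 h hr hd hR) (by decide)

theorem not_co3 (h : Cfsg.Spor.IsoCo3 S) (B : PB S p k n m) : False :=
  B.spor_one (NotCT.Orders.co3 h) 23 (fun _ hr hd hR => nr_co3 h hr hd hR) (by decide)

theorem not_fi22 (h : Cfsg.Spor.IsoFi22 S) (B : PB S p k n m) : False :=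
  B.spor_one (NotCT.Orders.fi22 h) 13 (fun _ hr hd hR => nr_fi22 h hr hd hR) (by decide)

theorem not_fi23 (h : Cfsg.Spor.IsoFi23 S) (B : PB S p k n m) : False :=
  B.spor_pair (NotCT.Orders.fi23 h) 17 23 (fun _ hr hd hR => nr_fi23 h hr hd hR) (by decide)

theorem not_fi24 (h : Cfsg.Spor.IsoFi24' S) (B : PB S p k n m) : False :=
  B.spor_false (NotCT.Orders.fi24 h) [17, 23, 29] (fun _ hr hd hR => nr_fi24 h hr hd hR) (by decide +kernel)

theorem not_hn (h : Cfsg.Spor.IsoHN S) (B : PB S p k n m) : False :=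
  B.spor_one (NotCT.Orders.hn h) 19 (fun _ hr hd hR => nr_hn h hr hd hR) (by decide)

theorem not_th (h : Cfsg.Spor.IsoTh S) (B : PB S p k n m) : False :=
  B.spor_false (NotCT.Orders.th h) [13, 19, 31] (fun _ hr hd hR => nr_th h hr hd hR) (by decide +kernel)

theorem not_b (h : Cfsg.Spor.IsoB S) (B : PB S p k n m) : False :=
  B.spor_pair (NotCT.Orders.b h) 31 47 (fun _ hr hd hR => nr_b h hr hd hR) (by decide)

theorem not_m (h : Cfsg.Spor.IsoM S) (B : PB S p k n m) : False :=
  B.spor_false (NotCT.Orders.m h) [29, 41, 59, 71] (fun _ hr hd hR => nr_m h hr hd hR) (by decide +kernel)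

theorem not_tits (h : Cfsg.Lie.IsoTits S) (B : PB S p k n m) : False :=
  B.spor_one (NotCT.Orders.tits h) 13 (fun _ hr hd hR => nr_tits h hr hd hR) (by decide)

theorem not_m11 (h : Cfsg.Spor.IsoM11 S) (B : PB S p k n m) : False :=
  B.spor_pair (NotCT.Orders.m11 h) 5 11 (fun _ hr hd hR => nr_m11' h hr hd hR) (by decide)

/-- **No sporadic group.** -/
theorem not_sporadic (h : Cfsg.IsSporadicGroup S) (B : PB S p k n m) : False := by
  rcases h with h | h | h | h | h | h | h | h | h | h | h | h | h | h | h | h | h | h | h | h | h |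
      h | h | h | h | h
  · exact not_m11 h B
  · exact not_m12 h B
  · exact not_m22 h B
  · exact not_m23 h B
  · exact not_m24 h B
  · exact not_j1 h B
  · exact not_j2 h B
  · exact not_j3 h B
  · exact not_j4 h B
  · exact not_co1 h B
  · exact not_co2 h B
  · exact not_co3 h B
  · exact not_mcl h B
  · exact not_hs h B
  · exact not_suz h B
  · exact not_he h B
  · exact not_ru h B
  · exact not_on h B
  · exact not_ly h B
  · exact not_fi22 h B
  · exact not_fi23 h B
  · exact not_fi24 h B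
  · exact not_hn h B
  · exact not_th h B
  · exact not_b h B
  · exact not_m h B

end

end Cfsg.Agent.H824.PG
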