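import Cfsg.Agent.H824.PG.Fam

/-!
# Arithmetic for the Suzuki groups and the small Ree groups (prime graph version)
-/

set_option autoImplicit false

namespace Cfsg.Agent.H824.PG

open Cfsg.Agent.H94 Cfsg.Agent.H371

section arith
variable {p k n m : ℕ} {e : ℤ} {c : ℕ}

/-- `b² + s b + 1` is not a square -/
theorem not_sq {b s y : ℤ} (hb : 2 ≤ b) (hs : s = 1 ∨ s = -1) : b ^ 2 + s * b + 1 ≠ y ^ 2 := by
  intro h
  rw [← sq_abs y] at h
  have hy := abs_nonneg y
  set z := |y| with hz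
  rcases hs with rfl | rfl
  · have h1 : b < z := by
      by_contra hc
      nlinarith
    have h2 : z < b + 1 := by
      by_contra hc
      nlinarith
    omega
  · have h1 : b - 1 < z := by
      by_contra hc
      nlinarith
    have h2 : z < b := by
      by_contra hc
      nlinarith
    omega

/-- the only square among the numbers `q + s t + 1` of the Suzuki groups -/
theorem sz_sq {a : ℕ} (ha : 1 ≤ a) {s x : ℤ} (hs : s = 1 ∨ s = -1)
    (h : 2 * ((2 : ℤ) ^ a) ^ 2 + 2 * s * 2 ^ a + 1 = x ^ 2) : x ^ 2 = 25 := by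
  rw [← sq_abs x] at h ⊢
  have hx0 := abs_nonneg x
  generalize |x| = x at *
  have hb2 : (2 : ℤ) ≤ 2 ^ a := by
    calc (2 : ℤ) = 2 ^ 1 := by norm_num
      _ ≤ 2 ^ a := pow_le_pow_right₀ (by norm_num) ha
  have hxo : x % 2 = 1 := by
    have h1 : (x ^ 2) % 2 = 1 := by
      have h0 : x ^ 2 = 2 * ((2 ^ a) ^ 2 + s * 2 ^ a) + 1 := by rw [← h]; ring
      rw [h0]; omega
    rcases Int.emod_two_eq_zero_or_one x with h2 | h2
    · exfalso
      obtain ⟨y, hy⟩ := Int.dvd_of_emod_eq_zero h2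
      rw [hy] at h1
      have : (2 * y) ^ 2 = 2 * (2 * y ^ 2) := by ring
      rw [this] at h1
      omega
    · exact h2
  -- `2 ^ a ∣ x - 1` or `2 ^ a ∣ x + 1`
  obtain ⟨y, hy⟩ : ∃ y, x = 2 * y + 1 := ⟨x / 2, by omega⟩
  have hs' : s = 1 ∨ s = -1 := hs
  have h1 : 2 * (y * (y + 1)) = (2 : ℤ) ^ a * (2 ^ a + s) := by
    rw [hy] at h
    linarith
  obtain ⟨a', rfl⟩ : ∃ a', a = a' + 1 := ⟨a - 1, by omega⟩
  have h2 : y * (y + 1) = (2 : ℤ) ^ a' * (2 ^ (a' + 1) + s) := by
    rw [pow_succ] at h1 ⊢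
    linarith
  have h3 : (2 : ℤ) ^ a' ∣ y * (y + 1) := ⟨_, h2⟩
  have h4 : (2 : ℤ) ^ a' ∣ y ∨ (2 : ℤ) ^ a' ∣ y + 1 := by
    have hp : Prime (2 : ℤ) := Int.prime_two
    rcases Int.even_or_odd y with hye | hyo
    · left
      have : IsCoprime ((2 : ℤ) ^ a') (y + 1) := by
        refine IsCoprime.pow_left ?_
        rw [Int.isCoprime_iff_gcd_eq_one]
        obtain ⟨z, hz⟩ := hye
        have : (y + 1) % 2 = 1 := by omega
        have h5 : Int.gcd 2 (y + 1) ∣ 1 := by
          have h6 : ((Int.gcd 2 (y + 1) : ℕ) : ℤ) ∣ 1 := by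
            have h7 := Int.gcd_dvd_left (a := 2) (b := y + 1)
            have h8 := Int.gcd_dvd_right (a := 2) (b := y + 1)
            have h9 : (y + 1) - 2 * z = 1 := by omega
            have h10 := dvd_sub h8 (dvd_mul_of_dvd_left h7 z)
            rw [h9] at h10
            exact h10
          exact_mod_cast h6
        exact Nat.dvd_one.1 h5
      exact this.dvd_of_dvd_mul_right h3
    · right
      have : IsCoprime ((2 : ℤ) ^ a') y := by
        refine IsCoprime.pow_left ?_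
        rw [Int.isCoprime_iff_gcd_eq_one]
        obtain ⟨z, hz⟩ := hyo
        have h5 : Int.gcd 2 y ∣ 1 := by
          have h6 : ((Int.gcd 2 y : ℕ) : ℤ) ∣ 1 := by
            have h7 := Int.gcd_dvd_left (a := 2) (b := y)
            have h8 := Int.gcd_dvd_right (a := 2) (b := y)
            have h9 : y - 2 * z = 1 := by omega
            have h10 := dvd_sub h8 (dvd_mul_of_dvd_left h7 z)
            rw [h9] at h10
            exact h10
          exact_mod_cast h6
        exact Nat.dvd_one.1 h5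
      exact this.dvd_of_dvd_mul_left h3
  obtain ⟨d, hd, w, hw⟩ : ∃ d : ℤ, (d = 0 ∨ d = 1) ∧ ∃ w, y = 2 ^ a' * w - d := by
    rcases h4 with ⟨w, hw⟩ | ⟨w, hw⟩
    · exact ⟨0, Or.inl rfl, w, by linarith⟩
    · exact ⟨1, Or.inr rfl, w, by linarith⟩
  have hb1 : (1 : ℤ) ≤ 2 ^ a' := one_le_pow₀ (by norm_num)
  obtain ⟨B, hB⟩ : ∃ B : ℤ, B = 2 ^ a' := ⟨_, rfl⟩
  rw [pow_succ, ← hB] at h2 hb2
  rw [← hB] at hw hb1
  have h5 : B * w ^ 2 + w * (1 - 2 * d) = 2 * B + s := by
    have hd2 : d * d = d := by rcases hd with rfl | rfl <;> norm_num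
    have : B * (B * w ^ 2 + w * (1 - 2 * d)) = B * (2 * B + s) := by
      rw [hw] at h2
      linear_combination h2 - hd2
    exact mul_left_cancel₀ (by linarith) this
  have hy0 : 0 ≤ y := by omega
  have hw0 : 0 ≤ w := by
    by_contra hc
    have : B * w ≤ B * (-1) := by nlinarith
    rcases hd with rfl | rfl <;> omega
  have hw2 : w ≤ 2 := by
    by_contra hc
    have : 3 ≤ w := by omega
    rcases hd with rfl | rfl <;> rcases hs with rfl | rfl <;> nlinarith
  have hcases : w = 0 ∨ w = 1 ∨ w = 2 := by omega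
  -- `B` is a power of `2`
  have hBp : B ≠ 3 := by
    rintro rfl
    rcases Nat.eq_zero_or_pos a' with h0 | h0
    · rw [h0] at hB; norm_num at hB
    · have : (2 : ℤ) ∣ 3 := by rw [hB]; exact dvd_pow_self 2 h0.ne'
      norm_num at this
  have hb2' : 2 ≤ B * 2 := hb2
  rcases hcases with rfl | rfl | rfl
  · rcases hs with rfl | rfl <;> omega
  · rcases hd with rfl | rfl <;> rcases hs with rfl | rfl
    · have : B = 0 := by linarith
      omega
    · have : B = 2 := by linarith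
      subst this
      rw [hy, hw]; norm_num
    · have : B = -2 := by linarith
      omega
    · have : B = 0 := by linarith
      omega
  · rcases hd with rfl | rfl <;> rcases hs with rfl | rfl
    · have : 2 * B = -1 := by linarith
      omega
    · have : 2 * B = -3 := by linarith
      omega
    · have : 2 * B = 3 := by linarith
      omega
    · have : 2 * B = 1 := by linarith
      omega

/-- `p ^ j ≡ 3 mod 4` -/
theorem pow_mod_four {p j : ℕ} (h : p ^ j % 4 = 3) : p % 4 = 3 ∧ Odd j := by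
  have h1 := Nat.pow_mod p j 4
  rw [h] at h1
  have h4 : p % 4 < 4 := Nat.mod_lt _ (by norm_num)
  rcases (by omega : p % 4 = 0 ∨ p % 4 = 1 ∨ p % 4 = 2 ∨ p % 4 = 3) with h2 | h2 | h2 | h2
  · rw [h2] at h1
    rcases Nat.eq_zero_or_pos j with h0 | h0
    · rw [h0] at h1; norm_num at h1
    · rw [zero_pow h0.ne'] at h1; norm_num at h1
  · rw [h2, one_pow] at h1; norm_num at h1
  · rw [h2] at h1
    rcases Nat.lt_or_ge j 2 with h0 | h0
    · interval_cases j <;> norm_num at h1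
    · obtain ⟨i, rfl⟩ : ∃ i, j = i + 2 := ⟨j - 2, by omega⟩
      rw [pow_add] at h1
      omega
  · refine ⟨h2, ?_⟩
    by_contra hc
    rw [Nat.not_odd_iff_even] at hc
    obtain ⟨i, rfl⟩ := hc
    rw [h2, ← two_mul, pow_mul, Nat.pow_mod] at h1
    norm_num at h1

/-- `p ^ j ≡ 1 mod 3`, `j` odd -/
theorem mod_three_of_pow {p j : ℕ} (h : p ^ j % 3 = 1) (hj : Odd j) : p % 3 = 1 := by
  have h1 := Nat.pow_mod p j 3
  rw [h] at h1
  have h4 : p % 3 < 3 := Nat.mod_lt _ (by norm_num)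
  rcases (by omega : p % 3 = 0 ∨ p % 3 = 1 ∨ p % 3 = 2) with h2 | h2 | h2
  · rw [h2, zero_pow (by rintro rfl; exact absurd hj (by decide))] at h1
    norm_num at h1
  · exact h2
  · obtain ⟨i, rfl⟩ := hj
    rw [h2, pow_add, pow_mul, Nat.mul_mod, Nat.pow_mod] at h1
    norm_num at h1

theorem Ep.three_dvd (E : Ep p k n m (-1) c) (h : p % 3 = 1) : 3 ∣ n := by
  refine dvd_trans ?_ E.cn
  have := E.hc
  omega

/-- the class `n` contains no prime: only for `p = 3` -/
theorem Ep.exists_c (E : Ep p k n m e c) (A : Ak p k n m) (hp3 : p ≠ 3) : ∃ r : ℕ, r.Prime ∧ r ∣ c := by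
  refine Nat.exists_prime_and_dvd fun h => hp3 (E.p_eq_three A h)

/-- all primes of `c` are equal to `l` -/
theorem Ep.c_pow (E : Ep p k n m e c) (A : Ak p k n m) (hp3 : p ≠ 3) {l : ℕ}
    (h : ∀ r : ℕ, r.Prime → r ∣ c → r = l) : ∃ M, M ≠ 0 ∧ c = l ^ M := by
  have hc0 : c ≠ 0 := by
    have := E.c_odd A
    omega
  have h1 := Nat.eq_prime_pow_of_unique_prime_dvd hc0 (fun {d} hd hdc => h d hd hdc)
  refine ⟨_, ?_, h1⟩
  intro h0
  rw [h0, pow_zero] at h1
  exact hp3 (E.p_eq_three A h1)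

/-- **Numerics for the Suzuki groups.** -/
theorem num_Sz (A : Ak p k n m) (hsg : ∀ r₀ : ℕ, (∀ r : ℕ, r.Prime → r ∣ n → r = r₀) → p = 3)
    {a : ℕ} (ha : 1 ≤ a) {b T T' : ℤ} (hb : b = 2 ^ a) {j : ℕ} (hj : T = (p : ℤ) ^ j)
    (hn : ∀ r : ℕ, r.Prime → r ∣ n → (r : ℤ) ∣ T')
    (h : (T = 2 * b ^ 2 - 1 ∧ (T' = 2 * b ^ 2 + 2 * b + 1 ∨ T' = 2 * b ^ 2 - 2 * b + 1)) ∨
      ∃ s, (s = 1 ∨ s = -1) ∧ T = 2 * b ^ 2 + 2 * s * b + 1 ∧
        (T' = 2 * b ^ 2 - 1 ∨ T' = 2 * b ^ 2 - 2 * s * b + 1)) : False := by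
  obtain ⟨e, c, E⟩ := A.exists_ep
  have hb2 : 2 ≤ b := by
    rw [hb]
    calc (2 : ℤ) = 2 ^ 1 := by norm_num
      _ ≤ 2 ^ a := pow_le_pow_right₀ (by norm_num) ha
  obtain ⟨b', hb'⟩ : ∃ b', b = 2 * b' := by
    obtain ⟨a', rfl⟩ : ∃ a', a = a' + 1 := ⟨a - 1, by omega⟩
    exact ⟨2 ^ a', by rw [hb, pow_succ]; ring⟩
  have hb3 : (b : ZMod 3) ≠ 0 := by
    rw [hb]
    push_cast
    exact pow_ne_zero _ (by decide)
  have hT3 : (T : ZMod 3) ≠ 0 ∧ (T' : ZMod 3) ≠ 0 := by
    have h1 : ∀ z : ZMod 3, z ≠ 0 → 2 * z ^ 2 - 1 ≠ 0 ∧ 2 * z ^ 2 + 2 * z + 1 ≠ 0 ∧ 2 * z ^ 2 - 2 * z + 1 ≠ 0 ∧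
      2 * z ^ 2 + 2 * (-1) * z + 1 ≠ 0 ∧ 2 * z ^ 2 - 2 * (-1) * z + 1 ≠ 0 := by
      decide
    obtain ⟨h2, h3, h4, h5, h6⟩ := h1 _ hb3
    rcases h with ⟨rfl, rfl | rfl⟩ | ⟨s, rfl | rfl, rfl, rfl | rfl⟩ <;> push_cast <;> try simp only [mul_one]
    · exact ⟨h2, h3⟩
    · exact ⟨h2, h4⟩
    · exact ⟨h3, h2⟩
    · exact ⟨h3, h4⟩
    · exact ⟨h5, h2⟩
    · exact ⟨h5, h6⟩
  have hn3 : ¬ 3 ∣ n := by
    intro h1
    exact hT3.2 ((ZMod.intCast_zmod_eq_zero_iff_dvd _ 3).2 (hn 3 Nat.prime_three h1))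
  have hj0 : j ≠ 0 := by
    rintro rfl
    rw [pow_zero] at hj
    rcases h with ⟨rfl, -⟩ | ⟨s, rfl | rfl, rfl, -⟩ <;> nlinarith
  have hp3 : p ≠ 3 := by
    rintro rfl
    apply hT3.1
    rw [hj]
    push_cast
    have : (3 : ZMod 3) = 0 := by decide
    rw [this, zero_pow hj0]
  have hjN : ∀ z : ℤ, T = z → ((p ^ j : ℕ) : ℤ) = z := fun z hz => by rw [← hz, hj]; push_cast; rfl
  rcases h with ⟨hT, -⟩ | ⟨s, hs, hT, hT'⟩
  · -- `T = q - 1`
    have h1 := hjN _ hT
    have h4 : p ^ j % 4 = 3 := by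
      rw [hb'] at h1
      have : (2 * (2 * b') ^ 2 - 1 : ℤ) = 8 * (b' ^ 2) - 1 := by ring
      rw [this] at h1
      omega
    obtain ⟨h5, h6⟩ := pow_mod_four h4
    rcases E.p_mod A with ⟨rfl, h7⟩ | ⟨rfl, h7⟩
    · omega
    · apply hn3
      apply E.three_dvd
      refine mod_three_of_pow ?_ h6
      have h8 : b ^ 2 % 3 = 1 := by
        have h9 : ((b ^ 2 - 1 : ℤ) : ZMod 3) = 0 := by
          have : ∀ z : ZMod 3, z ≠ 0 → z ^ 2 - 1 = 0 := by decide
          push_cast
          exact this _ hb3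
        have := (ZMod.intCast_zmod_eq_zero_iff_dvd _ 3).1 h9
        omega
      omega
  · have h1 := hjN _ hT
    -- `j` is odd
    have hjo : Odd j := by
      by_contra hc
      rw [Nat.not_odd_iff_even] at hc
      obtain ⟨i, rfl⟩ := hc
      have h2 := sz_sq ha hs (x := (p : ℤ) ^ i) (by
        rw [← hb, ← pow_mul, mul_two, ← hj, hT])
      have h3 : p ^ i = 5 := by
        have h4 : (p ^ i) ^ 2 = 5 ^ 2 := by exact_mod_cast h2
        exact Nat.pow_left_injective (by norm_num : (2 : ℕ) ≠ 0) h4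
      have h5 : p = 5 := by
        have h6 : p ∣ 5 := by
          rw [← h3]
          refine dvd_pow_self _ ?_
          rintro rfl
          exact hj0 rfl
        exact (Nat.prime_dvd_prime_iff_eq A.hp (by norm_num)).1 h6
      rcases E.p_mod A with ⟨rfl, h7⟩ | ⟨rfl, h7⟩
      · apply hn3
        have := E.hc
        have h8 : c = 3 := by omega
        rw [← h8]
        exact E.cn
      · omega
    have hs2 : s * s = 1 := by rcases hs with rfl | rfl <;> norm_num
    rcases E.p_mod A with ⟨rfl, hp4⟩ | ⟨rfl, hp4⟩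
    · -- `p ≥ 2 b + 1`
      have hodd : (2 : ℤ) * b ∣ (p : ℤ) - 1 := by
        have h2 : (2 : ℤ) * b ∣ (p : ℤ) ^ j - 1 := by
          rw [← hj, hT]
          exact ⟨b + s, by ring⟩
        have h3 := (Commute.all (p : ℤ) 1).geom_sum₂_mul j
        simp only [one_pow, mul_one] at h3
        rw [← h3] at h2
        have h4 : IsCoprime ((2 : ℤ) * b) (∑ i ∈ Finset.range j, (p : ℤ) ^ i) := by
          have h5 : (2 : ℤ) * b = 2 ^ (a + 1) := by rw [hb, pow_succ]; ring
          rw [h5]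
          refine IsCoprime.pow_left ?_
          have h6 : Odd (∑ i ∈ Finset.range j, (p : ℤ) ^ i) := by
            have h7 : (((∑ i ∈ Finset.range j, (p : ℤ) ^ i) - 1 : ℤ) : ZMod 2) = 0 := by
              have h8 : (p : ZMod 2) = 1 := by
                rw [ZMod.natCast_eq_one_iff_odd]
                exact Nat.odd_iff.2 A.podd
              have h9 : (j : ZMod 2) = 1 := by
                rw [ZMod.natCast_eq_one_iff_odd]
                exact hjo
              push_cast
              rw [h8]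
              simp only [one_pow, Finset.sum_const, Finset.card_range, nsmul_eq_mul, mul_one, h9, sub_self]
            have h8 := (ZMod.intCast_zmod_eq_zero_iff_dvd _ 2).1 h7
            rw [Int.odd_iff]
            omega
          obtain ⟨z, hz⟩ := h6
          exact ⟨-z, 1, by linarith⟩
        exact h4.dvd_of_dvd_mul_left h2
      have hpb : 2 * b + 1 ≤ (p : ℤ) := by
        have := Int.le_of_dvd (by have := A.p3; omega) hodd
        linarith
      have hj1 : j = 1 := by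
        by_contra hc
        have h2 : 2 ≤ j := by omega
        have h3 : (p : ℤ) ^ 2 ≤ (p : ℤ) ^ j := pow_le_pow_right₀ (by linarith) h2
        rw [← hj, hT] at h3
        rcases hs with rfl | rfl <;> nlinarith
      subst hj1
      rw [pow_one] at hj
      have hc : (c : ℤ) = b ^ 2 + s * b + 1 := by
        have := E.hc
        rw [← hj, hT] at this
        linarith
      -- the primes of `c`
      obtain ⟨l, hl, hl1⟩ : ∃ l : ℕ, (∀ r : ℕ, r.Prime → r ∣ c → r = l) ∧
          ((l = 7 ∧ T' = 2 * b ^ 2 - 1) ∨ l = 13) := by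
        rcases hT' with hT' | hT'
        · refine ⟨7, fun r hr hrc => ?_, Or.inl ⟨rfl, hT'⟩⟩
          have h2 := hn r hr (hrc.trans E.cn)
          have h3 : (r : ℤ) ∣ (c : ℤ) := Int.natCast_dvd_natCast.2 hrc
          rw [hT'] at h2
          rw [hc] at h3
          refine prime_dvd_small hr (z := 7) ?_ (by norm_num) (Or.inl rfl)
          have h4 : (7 : ℤ) = (2 * b ^ 2 - 1) * (2 + (2 * s * b - 3)) - (b ^ 2 + s * b + 1) * (2 * (2 * s * b - 3)) := by
            linear_combination (4 * b ^ 2) * hs2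
          rw [h4]
          exact dvd_sub (dvd_mul_of_dvd_left h2 _) (dvd_mul_of_dvd_left h3 _)
        · refine ⟨13, fun r hr hrc => ?_, Or.inr rfl⟩
          have h2 := hn r hr (hrc.trans E.cn)
          have h3 : (r : ℤ) ∣ (c : ℤ) := Int.natCast_dvd_natCast.2 hrc
          rw [hT'] at h2
          rw [hc] at h3
          refine prime_dvd_small hr (z := 13) ?_ (by norm_num) (Or.inl rfl)
          have h4 : (13 : ℤ) = (b ^ 2 + s * b + 1) * (16 - 2 * (4 * s * b + 3)) +
              (2 * b ^ 2 - 2 * s * b + 1) * (4 * s * b + 3) := by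
            linear_combination (16 * b ^ 2) * hs2
          rw [h4]
          exact dvd_add (dvd_mul_of_dvd_left h3 _) (dvd_mul_of_dvd_left h2 _)
      obtain ⟨M, hM0, hM⟩ := E.c_pow A hp3 hl
      have hMo : Odd M := by
        by_contra hc'
        rw [Nat.not_odd_iff_even] at hc'
        obtain ⟨i, rfl⟩ := hc'
        refine not_sq hb2 hs (y := (l : ℤ) ^ i) ?_
        rw [← hc, hM]
        push_cast
        ring
      have hcM : ((l ^ M : ℕ) : ℤ) = b ^ 2 + s * b + 1 := by rw [← hM, hc]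
      have ha3 : a = 1 ∨ a = 2 ∨ ∃ b₁ : ℤ, b = 8 * b₁ := by
        rcases (by omega : a = 1 ∨ a = 2 ∨ 3 ≤ a) with h2 | h2 | h2
        · exact Or.inl h2
        · exact Or.inr (Or.inl h2)
        · obtain ⟨a', rfl⟩ : ∃ a', a = a' + 3 := ⟨a - 3, by omega⟩
          exact Or.inr (Or.inr ⟨2 ^ a', by rw [hb, pow_add]; ring⟩)
      have hlM : l ∣ l ^ M := dvd_pow_self _ hM0
      rcases hl1 with ⟨rfl, hT₁⟩ | rfl
      · have h7 : 7 ^ M % 4 = 3 := by
          obtain ⟨i, rfl⟩ := hMo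
          rw [pow_add, pow_mul, Nat.mul_mod, Nat.pow_mod]
          norm_num
        rcases ha3 with rfl | rfl | ⟨b₁, hb₁⟩
        · norm_num at hb
          subst hb
          rcases hs with rfl | rfl
          · have := hsg 7 fun r hr hrn => by
              have h2 := hn r hr hrn
              rw [hT₁] at h2
              norm_num at h2
              exact prime_dvd_small hr h2 (by norm_num) (Or.inl rfl)
            exact hp3 this
          · norm_num at hcM
            have : 7 ^ M = 3 := by exact_mod_cast hcM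
            omega
        · norm_num at hb
          subst hb
          rcases hs with rfl | rfl
          · norm_num at hcM
            have : 7 ^ M = 21 := by exact_mod_cast hcM
            omega
          · norm_num at hcM
            have : 7 ^ M = 13 := by exact_mod_cast hcM
            omega
        · have : (b ^ 2 + s * b + 1 : ℤ) = 8 * (8 * b₁ ^ 2 + s * b₁) + 1 := by rw [hb₁]; ring
          rw [this] at hcM
          omega
      · have h7 : 13 ^ M % 8 = 5 := by
          obtain ⟨i, rfl⟩ := hMo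
          rw [pow_add, pow_mul, Nat.mul_mod, Nat.pow_mod]
          norm_num
        rcases ha3 with rfl | rfl | ⟨b₁, hb₁⟩
        · norm_num at hb
          subst hb
          rcases hs with rfl | rfl
          · norm_num at hcM
            have : 13 ^ M = 7 := by exact_mod_cast hcM
            omega
          · norm_num at hcM
            have : 13 ^ M = 3 := by exact_mod_cast hcM
            omega
        · norm_num at hb
          subst hb
          rcases hs with rfl | rfl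
          · norm_num at hcM
            have : 13 ^ M = 21 := by exact_mod_cast hcM
            omega
          · rw [hT] at hj
            norm_num at hj
            have h8 : p = 25 := by exact_mod_cast hj.symm
            have := A.hp
            rw [h8] at this
            norm_num at this
        · have : (b ^ 2 + s * b + 1 : ℤ) = 8 * (8 * b₁ ^ 2 + s * b₁) + 1 := by rw [hb₁]; ring
          rw [this] at hcM
          omega
    · -- `e = -1`: `T ≡ 1 mod 4`
      have h4 : p ^ j % 4 = 3 := by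
        obtain ⟨i, rfl⟩ := hjo
        rw [pow_add, pow_mul, Nat.mul_mod, Nat.pow_mod, Nat.pow_mod p 2, hp4]
        norm_num [hp4]
      rw [hb'] at h1
      have : (2 * (2 * b') ^ 2 + 2 * s * (2 * b') + 1 : ℤ) = 4 * (2 * b' ^ 2 + s * b') + 1 := by ring
      rw [this] at h1
      omega

/-- size -/
theorem ree_size {p j : ℕ} (hp : 5 ≤ p) (hj : 3 ≤ j) : 4 * ((p - 1) * j) ^ 2 + 9 < 9 * p ^ j := by
  obtain ⟨P, rfl⟩ : ∃ P, p = P + 1 := ⟨p - 1, by omega⟩
  rw [Nat.add_sub_cancel]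
  induction j, hj using Nat.le_induction with
  | base =>
    have h1 : 4 ≤ P := by omega
    have h2 : (P + 1) ^ 3 = P ^ 3 + 3 * P ^ 2 + 3 * P + 1 := by ring
    have h3 : 4 * P ^ 2 ≤ P ^ 3 := by
      rw [pow_succ P 2, mul_comm]
      exact Nat.mul_le_mul_left _ h1
    have h4 : (P * 3) ^ 2 = 9 * P ^ 2 := by ring
    rw [h2, h4]
    omega
  | succ j hj ih =>
    rw [pow_succ (P + 1) j]
    have h1 : (P + 1) ^ j * 5 ≤ (P + 1) ^ j * (P + 1) := Nat.mul_le_mul_left _ hp
    have h2 : (P * (j + 1)) ^ 2 ≤ 5 * (P * j) ^ 2 := by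
      have h3 : (P * (j + 1)) ^ 2 = P ^ 2 * (j + 1) ^ 2 := by ring
      have h4 : 5 * (P * j) ^ 2 = P ^ 2 * (5 * j ^ 2) := by ring
      rw [h3, h4]
      refine Nat.mul_le_mul_left _ ?_
      nlinarith
    omega

/-- the numbers of the Ree groups are no squares -/
theorem ree_sq {b s x : ℤ} (hs : s = 1 ∨ s = -1) {a : ℕ} (ha : 1 ≤ a) (hb : b = 3 ^ a) :
    3 * b ^ 2 + 3 * s * b + 1 ≠ x ^ 2 := by
  intro h
  have hb3 : 3 ≤ b := by
    rw [hb]
    calc (3 : ℤ) = 3 ^ 1 := by norm_num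
      _ ≤ 3 ^ a := pow_le_pow_right₀ (by norm_num) ha
  rw [← sq_abs x] at h
  have hx0 := abs_nonneg x
  generalize |x| = x at *
  -- `3 b ∣ (x - 1) (x + 1)`
  have h1 : (3 : ℤ) * b ∣ (x - 1) * (x + 1) := ⟨b + s, by linarith⟩
  have h3b : (3 : ℤ) * b = 3 ^ (a + 1) := by rw [hb, pow_succ]; ring
  have h2 : (3 : ℤ) * b ∣ x - 1 ∨ (3 : ℤ) * b ∣ x + 1 := by
    rw [h3b] at h1 ⊢
    by_cases h3 : (3 : ℤ) ∣ x + 1
    · right
      have : IsCoprime ((3 : ℤ) ^ (a + 1)) (x - 1) := by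
        refine IsCoprime.pow_left ?_
        obtain ⟨w, hw⟩ := h3
        exact ⟨1 - w, 1, by linarith⟩
      exact this.dvd_of_dvd_mul_left h1
    · left
      have : IsCoprime ((3 : ℤ) ^ (a + 1)) (x + 1) := by
        refine IsCoprime.pow_left ?_
        exact (Prime.coprime_iff_not_dvd Int.prime_three).2 h3
      exact this.dvd_of_dvd_mul_right h1
  have hle : 3 * b ≤ x + 1 := by
    rcases h2 with h2 | h2
    · have h4 : 0 < x - 1 := by
        by_contra hc
        have h5 : x = 0 ∨ x = 1 := by omega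
        rcases h5 with rfl | rfl <;> rcases hs with rfl | rfl <;> nlinarith
      have := Int.le_of_dvd h4 h2
      omega
    · exact Int.le_of_dvd (by omega) h2
  rcases hs with rfl | rfl <;> nlinarith

/-- **Numerics for the small Ree groups.** -/
theorem num_Ree (A : Ak p k n m) (hsg : ∀ r₀ : ℕ, (∀ r : ℕ, r.Prime → r ∣ n → r = r₀) → p = 3)
    {a : ℕ} (ha : 1 ≤ a) {b T T' : ℤ} (hb : b = 3 ^ a) {j : ℕ} (hj : T = (p : ℤ) ^ j)
    (hn : ∀ r : ℕ, r.Prime → r ∣ n → (r : ℤ) ∣ T') {s : ℤ} (hs : s = 1 ∨ s = -1)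
    (hT : T = 3 * b ^ 2 + 3 * s * b + 1) (hT' : T' = 3 * b ^ 2 - 3 * s * b + 1) : False := by
  obtain ⟨e, c, E⟩ := A.exists_ep
  have hb3 : 3 ≤ b := by
    rw [hb]
    calc (3 : ℤ) = 3 ^ 1 := by norm_num
      _ ≤ 3 ^ a := pow_le_pow_right₀ (by norm_num) ha
  have hjN : ((p ^ j : ℕ) : ℤ) = 3 * b ^ 2 + 3 * s * b + 1 := by rw [← hT, hj]; push_cast; rfl
  have hs2 : s * s = 1 := by rcases hs with rfl | rfl <;> norm_num
  have hmod : p ^ j % 3 = 1 := by
    have : (3 * b ^ 2 + 3 * s * b + 1 : ℤ) = 3 * (b ^ 2 + s * b) + 1 := by ring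
    rw [this] at hjN
    omega
  have hn3 : ¬ 3 ∣ n := by
    intro h1
    have h2 := hn 3 Nat.prime_three h1
    rw [hT'] at h2
    have : (3 * b ^ 2 - 3 * s * b + 1 : ℤ) = 3 * (b ^ 2 - s * b) + 1 := by ring
    rw [this] at h2
    omega
  have hj0 : j ≠ 0 := by
    rintro rfl
    rw [pow_zero] at hj
    rw [hj] at hT
    rcases hs with rfl | rfl <;> nlinarith
  have hp3 : p ≠ 3 := by
    rintro rfl
    have : 3 ∣ 3 ^ j := dvd_pow_self 3 hj0
    omega
  have hjo : Odd j := by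
    by_contra hc
    rw [Nat.not_odd_iff_even] at hc
    obtain ⟨i, rfl⟩ := hc
    refine ree_sq hs ha hb (x := (p : ℤ) ^ i) ?_
    rw [← hT, hj]
    ring
  have hpm := mod_three_of_pow hmod hjo
  rcases E.p_mod A with ⟨rfl, hp4⟩ | ⟨rfl, hp4⟩
  swap
  · exact hn3 (E.three_dvd hpm)
  have hp5 : 5 ≤ p := by have := A.p3; omega
  -- the primes of `c`
  have hc19 : ∀ r : ℕ, r.Prime → r ∣ c → r = 19 := by
    intro r hr hrc
    have h2 := hn r hr (hrc.trans E.cn)
    have h3 : (r : ℤ) ∣ T + 1 := by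
      have h4 : (r : ℤ) ∣ (p : ℤ) + 1 := by
        rw [← E.hc]
        exact dvd_mul_of_dvd_right (Int.natCast_dvd_natCast.2 hrc) _
      have h5 : (p : ℤ) + 1 ∣ (p : ℤ) ^ j + 1 := by
        have := hjo.add_dvd_pow_add_pow (p : ℤ) 1
        rwa [one_pow] at this
      rw [hj]
      exact h4.trans h5
    rw [hT'] at h2
    rw [hT] at h3
    refine prime_dvd_small hr (z := 19) ?_ (by norm_num) (Or.inl rfl)
    -- `(T + 1) - T' = 6 s b + 1`
    have h4 : (19 : ℤ) = (3 * b ^ 2 - 3 * s * b + 1) * 12 -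
        ((3 * b ^ 2 + 3 * s * b + 1 + 1) - (3 * b ^ 2 - 3 * s * b + 1)) * (6 * s * b - 7) := by
      linear_combination (36 * b ^ 2) * hs2
    rw [h4]
    exact dvd_sub (dvd_mul_of_dvd_left h2 _) (dvd_mul_of_dvd_left (dvd_sub h3 h2) _)
  obtain ⟨M, hM0, hM⟩ := E.c_pow A hp3 hc19
  -- `j = 1`
  have h3b : (3 : ℤ) * b = ((3 ^ (a + 1) : ℕ) : ℤ) := by rw [hb]; push_cast; rw [pow_succ]; ring
  have hj1 : j = 1 := by
    by_contra hc
    have hj3 : 3 ≤ j := by
      rw [Nat.odd_iff] at hjo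
      omega
    have h2 : ((3 ^ (a + 1) : ℕ) : ℤ) ∣ ((p : ℤ) - 1) * j := by
      refine lteZ (Odd.pow (by decide)) ?_ ?_
      · rw [← h3b, ← hj, hT]
        exact ⟨b + s, by ring⟩
      · intro r hr hrD
        have := (Nat.prime_dvd_prime_iff_eq hr Nat.prime_three).1 (hr.dvd_of_dvd_pow hrD)
        subst this
        omega
    have h4 : 3 * b ≤ ((p : ℤ) - 1) * j := by
      rw [h3b]
      refine Int.le_of_dvd ?_ h2
      refine mul_pos (by omega) (by omega)
    have h5 := ree_size hp5 hj3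
    have h6 : (((4 * ((p - 1) * j) ^ 2 + 9 : ℕ)) : ℤ) < ((9 * p ^ j : ℕ) : ℤ) := by exact_mod_cast h5
    push_cast [Nat.cast_sub (by omega : 1 ≤ p)] at h6
    rw [← hj, hT] at h6
    have h7 : (3 * b) ^ 2 ≤ (((p : ℤ) - 1) * j) ^ 2 := by
      refine pow_le_pow_left₀ (by linarith) h4 2
    rcases hs with rfl | rfl <;> nlinarith
  subst hj1
  rw [pow_one] at hj
  have hc : 2 * (c : ℤ) = 3 * b ^ 2 + 3 * s * b + 2 := by
    rw [E.hc, ← hj, hT]; ring
  have h19 : 2 * (19 : ℤ) ^ M = 3 * b ^ 2 + 3 * s * b + 2 := by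
    rw [← hc, hM]; push_cast; rfl
  have h2 : ((3 ^ (a + 1) : ℕ) : ℤ) ∣ ((19 : ℤ) - 1) * M := by
    refine lteZ (Odd.pow (by decide)) ?_ ?_
    · rw [← h3b]
      have h3 : IsCoprime (3 * b) (2 : ℤ) := by
        rw [h3b]
        push_cast
        exact IsCoprime.pow_left ⟨1, -1, by norm_num⟩
      refine h3.dvd_of_dvd_mul_left ?_
      exact ⟨b + s, by linear_combination h19⟩
    · intro r hr hrD
      have := (Nat.prime_dvd_prime_iff_eq hr Nat.prime_three).1 (hr.dvd_of_dvd_pow hrD)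
      subst this
      norm_num
  have h4 : b ≤ 3 * M := by
    rw [← h3b] at h2
    have h5 : b ∣ (3 * M) * 2 := by
      have h6 : (3 : ℤ) * b ∣ 3 * ((3 * M) * 2) := by
        have : (3 * ((3 * M) * 2) : ℤ) = (19 - 1) * M := by ring
        rw [this]; exact h2
      exact Int.dvd_of_mul_dvd_mul_left (by norm_num) h6
    have h7 : IsCoprime b (2 : ℤ) := by
      rw [hb]
      exact IsCoprime.pow_left ⟨1, -1, by norm_num⟩
    exact Int.le_of_dvd (by omega) (h7.dvd_of_dvd_mul_right h5)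
  have hM1 : M = 1 := by
    by_contra hc'
    have hM2 : 2 ≤ M := by omega
    have h8 : ∀ i : ℕ, 2 ≤ i → 27 * i ^ 2 + 9 * i + 2 < 2 * 19 ^ i := by
      intro i hi
      induction i, hi using Nat.le_induction with
      | base => norm_num
      | succ i hi ih =>
        rw [pow_succ 19 i]
        have : 27 * (i + 1) ^ 2 + 9 * (i + 1) + 2 ≤ 19 * (27 * i ^ 2 + 9 * i + 2) := by nlinarith
        omega
    have h9 := h8 M hM2
    have h10 : (27 * (M : ℤ) ^ 2 + 9 * M + 2) < 2 * 19 ^ M := by exact_mod_cast h9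
    rw [h19] at h10
    have h11 : b ^ 2 ≤ (3 * M) ^ 2 := pow_le_pow_left₀ (by linarith) h4 2
    rcases hs with rfl | rfl <;> nlinarith
  subst hM1
  have hb33 : b = 3 := by
    push_cast at h4
    linarith
  subst hb33
  rcases hs with rfl | rfl
  · refine hp3 (hsg 19 fun r hr hrn => ?_)
    have h2 := hn r hr hrn
    rw [hT'] at h2
    norm_num at h2
    exact prime_dvd_small hr h2 (by norm_num) (Or.inl rfl)
  · norm_num at h19

end arith

end Cfsg.Agent.H824.PG
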